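import Cfsg.Agent.H830.Rg.HexK

/-!
# S3691, `Ω₇(q)`: the second factor fixes a singular point, conclusion (helper830)

* `no_hex_v` : `K` fixes `⟨v⟩`, `⟨v, z⟩`, induces `E W` on `W = ⟨v, v', z⟩^⊥` and contains `siegel v (t z)`
-/

set_option autoImplicit false
set_option linter.unusedSectionVars false

namespace Cfsg.Agent.H830.Hex

open QuadraticMap Cfsg.Agent.LieClassical.OrthCore Cfsg.Agent.LieClassical.OrthTrans
  Cfsg.Agent.LieClassical.OrthSimple Cfsg.Agent.H883.Sub Cfsg.Agent.H883.Root Cfsg.Agent.H916.QuadLemmas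

variable {F V : Type*} [Field F] [AddCommGroup V] [Module F V] {Q : QuadraticForm F V}

section

variable {K : Subgroup (V ≃ₗ[F] V)} {v v' z u u' : V}

/-- lifts of the Siegel transformations, from the commutators with the torus -/
theorem gen_lift (hv : Hyp Q v v') (hz : z ∈ cp Q v v') (hQz : polar Q z z ≠ 0)
    (fixv : ∀ k ∈ K, ∃ c : F, k v = c • v) (fixz : ∀ k ∈ K, ∃ a b : F, k z = a • z + b • v) {W : Submodule F V}
    (hW : W = cp Q v v' ⊓ LinearMap.ker (polarBilin Q z))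
    (hst : ∀ e ∈ EY Q W, ∀ w ∈ W, e w ∈ W)
    (S1 : ∀ e ∈ EY Q W, ∃ k ∈ K, ∀ w ∈ W, ∃ c : F, k w = e w + c • v)
    (hu : Q u = 0) (huW : u ∈ W) {t : V ≃ₗ[F] V} (ht : t ∈ EY Q W) {θ : F} (hθ : θ ≠ 1) (htu : t u = θ • u)
    {s : V} (hts : t s = s) (hsW : s ∈ W) (hus : polar Q u s = 0) :
    ∃ k ∈ K, LF Q v (siegel Q u s hu hus) k := by
  have hθ1 : θ - 1 ≠ 0 := sub_ne_zero.2 hθ
  obtain ⟨s', hs'⟩ : ∃ s', s' = (θ - 1)⁻¹ • s := ⟨_, rfl⟩
  have hsW' : s' ∈ W := by rw [hs']; exact W.smul_mem _ hsW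
  have hus' : polar Q u s' = 0 := by rw [hs', polar_smul_right, hus, smul_zero]
  have hts' : t s' = s' := by rw [hs', map_smul, hts]
  have hXE : siegel Q u s' hu hus' ∈ EY Q W := (has_EY hu hus' huW hsW').2.2
  obtain ⟨k₁, hk₁, l₁⟩ := S1 t ht
  obtain ⟨k₂, hk₂, l₂⟩ := S1 _ hXE
  have h1 := comm_lift hv hz hQz fixv fixz hW ht hXE hk₁ hk₂ l₁ l₂ hst
  refine ⟨_, K.mul_mem (K.mul_mem hk₁ hk₂) (K.mul_mem (K.inv_mem hk₁) (K.inv_mem hk₂)), ?_⟩
  have tO : t ∈ O Q := E_le_O (EY_le_E ht)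
  have hu' : Q (θ • u) = 0 := by rw [QuadraticMap.map_smul, hu, smul_zero]
  have hus'' : polar Q (θ • u) s' = 0 := by rw [polar_smul_left, hus', smul_zero]
  have hus3 : polar Q u (θ • s') = 0 := by rw [polar_smul_right, hus', smul_zero]
  have hneg : polar Q u (-s') = 0 := by rw [polar_neg_right, hus', neg_zero]
  have hadd : polar Q u (θ • s' + -s') = 0 := by rw [polar_add_right, hus3, hneg, add_zero]
  have e1 : t * siegel Q u s' hu hus' * (t⁻¹ * (siegel Q u s' hu hus')⁻¹) = siegel Q u s hu hus := by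
    have e2 : t * siegel Q u s' hu hus' * (t⁻¹ * (siegel Q u s' hu hus')⁻¹) =
      (t * siegel Q u s' hu hus' * t⁻¹) * (siegel Q u s' hu hus')⁻¹ := by group
    rw [e2, siegel_conj' tO hu hus' hu' hus'' htu hts', siegel_smul_left hu hu' hus'' hus3, siegel_inv hu hus' hneg,
      siegel_mul hu hus3 hneg hadd]
    refine siegel_eq _ _ _ _ rfl ?_
    have e3 : θ • s' + -s' = (θ - 1) • s' := by module
    rw [e3, hs', smul_smul, mul_inv_cancel₀ hθ1, one_smul]
  rwa [e1] at h1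

/-- **a Siegel transformation with second vector not orthogonal to `u`** -/
theorem bad1 (h2 : (2 : F) ≠ 0) (hK : K ≤ O Q) (hu : Q u = 0) {Y : Submodule F V}
    (hY : ∀ s ∈ Y, polar Q u s = 0)
    (lift : ∀ s ∈ Y, ∀ hs : polar Q u s = 0, ∃ k ∈ K, LF Q v (siegel Q u s hu hs) k)
    (val : ∀ c : F, c ≠ 0 → ∃ s ∈ Y, Q s = c) {c : V} (hc : Has Q K v c) (hπ : polar Q u c ≠ 0) :
    (∀ s ∈ Y, Has Q K v s) ∧ Has Q K v u := by
  obtain ⟨π, hπd⟩ : ∃ π, π = polar Q u c := ⟨_, rfl⟩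
  rw [← hπd] at hπ
  have step : ∀ s ∈ Y, Has Q K v (π • s - (polar Q s c) • u - (Q s * π) • u) := by
    intro s hs
    obtain ⟨k, hk, hk1, hk2⟩ := lift s hs (hY s hs)
    obtain ⟨b, hb⟩ := hk2 c hc.2.1
    have h1 := hc.map (hK hk) hk
    rw [hk1, hb] at h1
    have h3 := (h1.add_smul_self (-b)).sub hc
    refine h3.congr rfl ?_
    rw [siegel_apply, ← hπd]
    module
  have hv := hc.1
  have hzero : Has Q K v 0 := by
    have := hc.sub hc
    rwa [sub_self] at this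
  have hline : ∀ l : F, Has Q K v (l • u) := by
    intro l
    by_cases hl : l = 0
    · rw [hl, zero_smul]; exact hzero
    · have hd : -(2 * π) ≠ 0 := neg_ne_zero.2 (mul_ne_zero h2 hπ)
      obtain ⟨s, hs, hQs⟩ := val (l * (-(2 * π))⁻¹) (mul_ne_zero hl (inv_ne_zero hd))
      have h1 := (step s hs).add (step (-s) (Y.neg_mem hs))
      refine h1.congr rfl ?_
      have hQn : Q (-s) = Q s := QuadraticMap.map_neg Q s
      have hpn : polar Q (-s) c = -polar Q s c := polar_neg_left Q s c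
      rw [hQn, hpn]
      have h3 : Q s * (-(2 * π)) = l := by rw [hQs, mul_assoc, inv_mul_cancel₀ hd, mul_one]
      have h4 : π • s - polar Q s c • u - (Q s * π) • u + (π • -s - (-polar Q s c) • u - (Q s * π) • u) =
        (Q s * (-(2 * π))) • u := by module
      rw [h4, h3]
  refine ⟨fun s hs => ?_, by simpa using hline 1⟩
  have h1 := (step (π⁻¹ • s) (Y.smul_mem _ hs)).add (hline (polar Q (π⁻¹ • s) c + Q (π⁻¹ • s) * π))
  refine h1.congr rfl ?_
  have h3 : π • π⁻¹ • s = s := by rw [smul_smul, mul_inv_cancel₀ hπ, one_smul]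
  rw [h3]
  module

end

/-! ### Numbers -/

section

variable [Finite F]

theorem exists_poly (hq : 13 < Nat.card F) : ∃ c : F, c ≠ 0 ∧ 1 - c * c ≠ 0 ∧ 1 + c * c ≠ 0 ∧
    (1 - c * c) ^ 4 + (1 - c * c) ^ 2 * (2 * c) ^ 2 + (2 * c) ^ 4 ≠ 0 := by
  classical
  have := Fintype.ofFinite F
  obtain ⟨P, hP⟩ : ∃ P : Polynomial F, P = Polynomial.X * ((1 - Polynomial.X * Polynomial.X) * ((1 + Polynomial.X * Polynomial.X) *
    ((1 - Polynomial.X * Polynomial.X) ^ 4 + (1 - Polynomial.X * Polynomial.X) ^ 2 * (2 * Polynomial.X) ^ 2 +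
      (2 * Polynomial.X) ^ 4))) := ⟨_, rfl⟩
  have hdeg : P.natDegree ≤ 13 := by
    rw [hP]
    compute_degree
  have hP0 : P ≠ 0 := by
    rw [hP]
    have ev : ∀ {R : Polynomial F}, R.eval 0 ≠ 0 → R ≠ 0 := by
      rintro R hR rfl
      exact hR Polynomial.eval_zero
    refine mul_ne_zero Polynomial.X_ne_zero (mul_ne_zero (ev ?_) (mul_ne_zero (ev ?_) (ev ?_)))
    · simp
    · simp
    · simp
  obtain ⟨c, hc⟩ := Polynomial.exists_eval_ne_zero_of_natDegree_lt_card P hP0 (by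
    rw [← Nat.cast_card (α := F)]
    exact_mod_cast lt_of_le_of_lt hdeg hq)
  rw [hP] at hc
  simp only [Polynomial.eval_mul, Polynomial.eval_add, Polynomial.eval_sub, Polynomial.eval_pow, Polynomial.eval_X,
    Polynomial.eval_one, Polynomial.eval_ofNat] at hc
  have h1 := mul_ne_zero_iff.1 hc
  have h3 := mul_ne_zero_iff.1 h1.2
  have h4 := mul_ne_zero_iff.1 h3.2
  exact ⟨c, h1.1, h3.1, h4.1, h4.2⟩

/-- the numbers `i`, `j`, `l` of the structure `YS` -/
theorem exists_pyth (h2 : (2 : F) ≠ 0) (hq : 13 < Nat.card F) : ∃ ω : F, ω ≠ 0 ∧ ω * ω ≠ 1 ∧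
    ∃ i j l : ℕ, (ω * ω) ^ i + (ω * ω) ^ j = (ω * ω) ^ l ∧
      ((ω * ω) ^ i) * ((ω * ω) ^ i) + (ω * ω) ^ i * (ω * ω) ^ j + (ω * ω) ^ j * (ω * ω) ^ j ≠ 0 := by
  classical
  have := Fintype.ofFinite F
  obtain ⟨g, hg⟩ := IsCyclic.exists_monoid_generator (α := Fˣ)
  have hpow : ∀ x : F, x ≠ 0 → ∃ n : ℕ, x * x = ((g : F) * g) ^ n := by
    intro x hx
    obtain ⟨n, hn⟩ := (Submonoid.mem_powers_iff _ _).1 (hg (Units.mk0 x hx))
    refine ⟨n, ?_⟩
    have h1 := congrArg (fun u : Fˣ => (u : F)) hn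
    simp only [Units.val_pow_eq_pow_val, Units.val_mk0] at h1
    rw [mul_pow, h1]
  obtain ⟨c, c0, c1, c2, c3⟩ := exists_poly hq
  refine ⟨g, g.ne_zero, ?_, ?_⟩
  · intro h1
    -- all squares would be `1`
    obtain ⟨n, hn⟩ := hpow c c0
    rw [h1, one_pow] at hn
    exact c1 (by rw [hn]; ring)
  · obtain ⟨i, hi⟩ := hpow _ c1
    obtain ⟨j, hj⟩ := hpow _ (mul_ne_zero h2 c0)
    obtain ⟨l, hl⟩ := hpow _ c2
    refine ⟨i, j, l, ?_, ?_⟩
    · rw [← hi, ← hj, ← hl]; ring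
    · rw [← hi, ← hj]
      intro h0
      apply c3
      linear_combination h0

end

variable [Finite F] [FiniteDimensional F V]

theorem YS.false {H K : Subgroup (V ≃ₗ[F] V)} {v z u u' : V} {θ : F} (hG : Good Q) (h7 : Module.finrank F V = 7)
    (h2 : (2 : F) ≠ 0) (hq : 5 < Nat.card F) (hH : H ≤ O Q) (hc : Nat.card F ^ 6 ∣ Nat.card H)
    (hdis : ∀ t ∈ E Q, ∀ h ∈ H, t * h * t⁻¹ ∈ K → h = 1) (hY : YS Q K v z u u' θ) : False := by
  have hfV : Finite V := Module.finite_of_finite F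
  obtain ⟨w, w', k, hk, h, hkv, hkw, -, hkx⟩ := hY.exists_tor
  have hvw : polar Q w v = 0 := by rw [polar_comm]; exact h.vu
  have hsv : ∀ s, polar Q v s = 0 → polar Q s v = 0 := fun s hs => by rw [polar_comm]; exact hs
  have hQf : ∀ (s : V) (f : F), polar Q v s = 0 → Q (s + f • v) = Q s := by
    intro s f hs
    rw [Q_add, QuadraticMap.map_smul, h.qv, polar_smul_right, hsv s hs]; simp
  refine no_hex hG h7 h2 hq hH hc hdis ?_ ?_
  · intro c hc0
    obtain ⟨s, s1, s2, s3, s4, s5⟩ := h.val c hc0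
    obtain ⟨f, hf⟩ := h.has hG.nondeg hk hkv hkw hkx s1 s2 s3 s4
    exact ⟨w, s + f • v, h.hyp.left_ne, hf, by rw [hQf s f s2, s5]⟩
  · obtain ⟨s, s1, s2, s3, s4, s5⟩ := h.val 1 one_ne_zero
    obtain ⟨f, hf⟩ := h.has hG.nondeg hk hkv hkw hkx s1 s2 s3 s4
    obtain ⟨t, ht, hS2⟩ := h.sie
    have hgen : Gen Q w (s + f • v) v (t • z) :=
      { qu := h.hyp.left
        qu' := h.qv
        uu' := hvw
        uw := hf.2.1
        uw' := by rw [polar_smul_right, polar_comm, h.zu, smul_zero]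
        u'w := by rw [polar_add_right, polar_smul_right, s2, polar_self_of_sing h.qv]; simp
        u'w' := hS2.2.1
        ind := by
          intro l hl
          have h1 := h.vu'
          rw [hl, polar_smul_left, h.hyp.pair] at h1
          have hl0 : l = 0 := by simpa using h1
          exact h.v0 (by rw [hl, hl0, zero_smul])
        u0 := h.hyp.left_ne }
    refine ⟨w, s + f • v, v, t • z, hgen, ?_, K.mul_mem hf.2.2 hS2.2.2⟩
    have h4 : (4 : F) = 2 * 2 := by norm_num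
    have e1 : polar Q (s + f • v) (t • z) = 0 := by
      rw [polar_smul_right, polar_add_left, polar_smul_left, h.vz, polar_comm, s3]; simp
    rw [Dsc, e1, hQf s f s2, s5, QuadraticMap.map_smul, h4]
    simp only [mul_zero, mul_one, zero_sub, smul_eq_mul]
    exact neg_ne_zero.2 (mul_ne_zero (mul_ne_zero h2 h2) (mul_ne_zero (mul_ne_zero ht ht) h.qz))

/-- **the second factor fixes a singular point** -/
theorem no_hex_v {H K : Subgroup (V ≃ₗ[F] V)} (hG : Good Q) (h7 : Module.finrank F V = 7) (h2 : (2 : F) ≠ 0)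
    (hq : 13 < Nat.card F) (hH : H ≤ O Q) (hK : K ≤ O Q) (hc : Nat.card F ^ 6 ∣ Nat.card H)
    (hdis : ∀ t ∈ E Q, ∀ h ∈ H, t * h * t⁻¹ ∈ K → h = 1) {v v' z : V} (hv : Hyp Q v v') (hz : z ∈ cp Q v v')
    (hQz : Q z ≠ 0) (fixv : ∀ k ∈ K, ∃ c : F, k v = c • v) (fixz : ∀ k ∈ K, ∃ a b : F, k z = a • z + b • v)
    {W : Submodule F V} (hW : W = cp Q v v' ⊓ LinearMap.ker (polarBilin Q z)) {e : V} (heW : e ∈ W) (he : Q e = 0) (he0 : e ≠ 0)
    (S1 : ∀ e ∈ EY Q W, ∃ k ∈ K, ∀ w ∈ W, ∃ c : F, k w = e w + c • v)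
    (S2 : ∃ t : F, t ≠ 0 ∧ Has Q K v (t • z)) : False := by
  have hQ := hG.nondeg
  have hzz : polar Q z z ≠ 0 := by rw [polar_self']; exact mul_ne_zero h2 hQz
  have hNC := nondegOn_cp hQ hv
  have hNW : NondegOn Q W := by rw [hW]; exact nondegOn_inf_ker hNC hz hzz
  have hdC := finrank_cp_eq hQ hv
  have hdW : 4 ≤ Module.finrank F W := by
    have k1 := H445.AH.finrank_inf_polar (Q := Q) (cp Q v v') z
    rw [← hW] at k1
    omega
  have mW : ∀ {x : V}, x ∈ W → polar Q v x = 0 ∧ polar Q v' x = 0 ∧ polar Q z x = 0 := by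
    intro x hx
    rw [hW] at hx
    exact ⟨(mem_cp.1 hx.1).1, (mem_cp.1 hx.1).2, hx.2⟩
  have hWC : ∀ {x : V}, x ∈ W → x ∈ cp Q v v' := by
    intro x hx
    rw [hW] at hx
    exact hx.1
  have hst : ∀ e ∈ EY Q W, ∀ w ∈ W, e w ∈ W := fun g hg w hw => (H883.Bridge.mem_stab.1 (EY_stab hg) w).1 hw
  obtain ⟨u', hu'W, hyp⟩ := exists_partner' hNW heW he he0
  have hzu : polar Q z e = 0 := (mW heW).2.2
  have hzu' : polar Q z u' = 0 := (mW hu'W).2.2
  have hvu : polar Q v e = 0 := (mW heW).1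
  have hvu' : polar Q v u' = 0 := (mW hu'W).1
  have hev : polar Q e v = 0 := by rw [polar_comm]; exact hvu
  have hu'v : polar Q u' v = 0 := by rw [polar_comm]; exact hvu'
  have hez : polar Q e z = 0 := by rw [polar_comm]; exact hzu
  have hu'z : polar Q u' z = 0 := by rw [polar_comm]; exact hzu'
  have hvz : polar Q v z = 0 := (mem_cp.1 hz).1
  have hzv : polar Q z v = 0 := by rw [polar_comm]; exact hvz
  obtain ⟨Y, hYdef⟩ : ∃ Y, Y = W ⊓ cp Q e u' := ⟨_, rfl⟩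
  have hNY : NondegOn Q Y := by rw [hYdef]; exact nondegOn_inf_cp hNW heW hu'W hyp
  have hdY : 2 ≤ Module.finrank F Y := by
    have k1 := Submodule.finrank_sup_add_finrank_inf_eq W (cp Q e u')
    have k2 := Submodule.finrank_le (W ⊔ cp Q e u')
    have k3 := finrank_cp_eq hQ hyp
    rw [← hYdef] at k1
    omega
  have mY : ∀ {s : V}, s ∈ Y → s ∈ W ∧ polar Q e s = 0 ∧ polar Q u' s = 0 := by
    intro s hs
    rw [hYdef] at hs
    exact ⟨hs.1, mem_cp.1 hs.2⟩
  have val : ∀ c : F, c ≠ 0 → ∃ s ∈ Y, Q s = c := by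
    intro c hc0
    refine H445.AH.exists_value_mem ?_ c hc0
    have k1 : Y ⊓ perp Q Y = ⊥ := by
      rw [eq_bot_iff]
      rintro x ⟨hx1, hx2⟩
      exact hNY x hx1 fun y hy => by rw [polar_comm]; exact mem_perp.1 hx2 y hy
    rw [k1, finrank_bot]
    omega
  obtain ⟨s₀, hs₀Y, hs₀⟩ := val 1 one_ne_zero
  obtain ⟨ω, hω, hω1, hpyth⟩ := exists_pyth h2 hq
  have hθ0 : ω * ω ≠ 0 := mul_ne_zero hω hω
  have hθ1' : (ω * ω)⁻¹ ≠ 1 := fun h => hω1 (inv_eq_one.1 h)
  have smulY : ∀ α : F, α • s₀ ∈ Y := fun α => Y.smul_mem α hs₀Y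
  obtain ⟨t, ht, t1, t2, t3⟩ := exists_torus (G₀ := EY Q W) h2 hyp (mY hs₀Y).2.1 (mY hs₀Y).2.2 hs₀
    (fun α => has_EY he (mY (smulY α)).2.1 heW (mY (smulY α)).1)
    (fun α => has_EY hyp.right (mY (smulY α)).2.2 hu'W (mY (smulY α)).1) hω
  -- the lifts
  have lift1 : ∀ s ∈ Y, ∀ hs : polar Q e s = 0, ∃ k ∈ K, LF Q v (siegel Q e s he hs) k := fun s hs hes =>
    gen_lift hv hz hzz fixv fixz hW hst S1 he heW ht hω1 t1 (t3 s hes (mY hs).2.2) (mY hs).1 hes
  have lift2 : ∀ s ∈ Y, ∀ hs : polar Q u' s = 0, ∃ k ∈ K, LF Q v (siegel Q u' s hyp.right hs) k := fun s hs hes =>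
    gen_lift hv hz hzz fixv fixz hW hst S1 hyp.right hu'W ht hθ1' t2 (t3 s (mY hs).2.1 hes) (mY hs).1 hes
  obtain ⟨t', ⟨ht'S, kt, hkt, kt1, kt2⟩, t1', t2', t3'⟩ := exists_torus (G₀ := lifG Q K v) h2 hyp (mY hs₀Y).2.1 (mY hs₀Y).2.2 hs₀
    (fun α => ⟨he, (mY (smulY α)).2.1, siegel_cp_mem_StV (v' := v') he (mY (smulY α)).2.1 (hWC heW) (hWC (mY (smulY α)).1),
      lift1 _ (smulY α) (mY (smulY α)).2.1⟩)
    (fun α => ⟨hyp.right, (mY (smulY α)).2.2, siegel_cp_mem_StV (v' := v') hyp.right (mY (smulY α)).2.2 (hWC hu'W)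
      (hWC (mY (smulY α)).1), lift2 _ (smulY α) (mY (smulY α)).2.2⟩) hω
  -- a bad Siegel transformation gives a contradiction
  have hfin : ∀ {u₁ : V}, u₁ ∈ W → Q u₁ = 0 → u₁ ≠ 0 → (∀ s ∈ Y, Has Q K v s) ∧ Has Q K v u₁ → False := by
    rintro u₁ hu₁ hQu₁ hu₁0 ⟨h1, h3⟩
    refine no_root hG h7 h2 hH hc hdis (fun c hc0 => ?_) hv.left_ne hQu₁ (fun l hl => ?_) h3
    · obtain ⟨s, hs, hsc⟩ := val c hc0
      exact ⟨v, s, hv.left_ne, h1 s hs, hsc⟩
    · have h4 := (mW hu₁).2.1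
      rw [hl, polar_smul_right, hv.pair'] at h4
      have hl0 : l = 0 := by simpa using h4
      exact hu₁0 (by rw [hl, hl0, zero_smul])
  have hbad1 : ∀ {c : V}, Has Q K v c → polar Q e c ≠ 0 → False := fun hcK hne =>
    hfin heW he he0 (bad1 h2 hK he (fun s hs => (mY hs).2.1) lift1 val hcK hne)
  have hbad2 : ∀ {c : V}, Has Q K v c → polar Q u' c ≠ 0 → False := fun hcK hne =>
    hfin hu'W hyp.right hyp.right_ne (bad1 h2 hK hyp.right (fun s hs => (mY hs).2.2) lift2 val hcK hne)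
  have sieg : ∀ c, Has Q K v c → ∃ α β : F, c = α • z + β • v := by
    intro c hcK
    obtain ⟨α, hα⟩ : ∃ α, α * polar Q z z = polar Q z c := ⟨polar Q z c * (polar Q z z)⁻¹, by
      rw [mul_assoc, inv_mul_cancel₀ hzz, mul_one]⟩
    obtain ⟨w, hw⟩ : ∃ w, w = c - α • z - polar Q v' c • v := ⟨_, rfl⟩
    have hcw : c = w + α • z + polar Q v' c • v := by rw [hw]; module
    have hwW : w ∈ W := by
      rw [hW]
      refine ⟨mem_cp.2 ⟨?_, ?_⟩, ?_⟩
      · rw [hw, polar_sub_right, polar_sub_right, polar_smul_right, polar_smul_right, hcK.2.1, hvz, hv.polar_left]; simp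
      · rw [hw, polar_sub_right, polar_sub_right, polar_smul_right, polar_smul_right, (mem_cp.1 hz).2, hv.pair']; simp
      · show polar Q z w = 0
        rw [hw, polar_sub_right, polar_sub_right, polar_smul_right, polar_smul_right, hzv, smul_eq_mul, hα]; simp
    by_cases hw0 : w = 0
    · refine ⟨α, polar Q v' c, ?_⟩
      rw [hw0, zero_add] at hcw
      exact hcw
    · exfalso
      by_cases p1 : polar Q e c = 0
      · by_cases p2 : polar Q u' c = 0
        · have hwY : w ∈ Y := by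
            rw [hYdef]
            refine ⟨hwW, mem_cp.2 ⟨?_, ?_⟩⟩
            · rw [hw, polar_sub_right, polar_sub_right, polar_smul_right, polar_smul_right, p1, hez, hev]; simp
            · rw [hw, polar_sub_right, polar_sub_right, polar_smul_right, polar_smul_right, p2, hu'z, hu'v]; simp
          obtain ⟨r, hr, hrw⟩ := hNY.exists_polar_eq hwY hw0 1
          obtain ⟨k, hk, hk1, hk2⟩ := lift1 r hr (mY hr).2.1
          obtain ⟨b, hb⟩ := hk2 c hcK.2.1
          have h1 := hcK.map (hK hk) hk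
          rw [hk1, hb] at h1
          apply hbad2 h1
          have hrz : polar Q r z = 0 := by rw [polar_comm]; exact (mW (mY hr).1).2.2
          have hrv : polar Q r v = 0 := by rw [polar_comm]; exact (mW (mY hr).1).1
          have hrc : polar Q r c = 1 := by
            have h3 : polar Q r c = polar Q r w := by
              rw [hw, polar_sub_right, polar_sub_right, polar_smul_right, polar_smul_right, hrz, hrv]; simp
            rw [h3, polar_comm, hrw]
          rw [siegel_apply, p1, hrc, polar_add_right, polar_sub_right, polar_sub_right, polar_add_right, polar_smul_right,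
            polar_smul_right, polar_smul_right, polar_smul_right, p2, hyp.pair', hu'v]
          simp
        · exact hbad2 hcK p2
      · exact hbad1 hcK p1
  have hYS : YS Q K v z e u' (ω * ω) :=
    { le := hK
      v0 := hv.left_ne
      qv := hv.left
      qz := hQz
      vz := hvz
      hyp := hyp
      vu := hvu
      vu' := hvu'
      zu := hzu
      zu' := hzu'
      lift := by
        intro s hs hvs hzs hs'
        obtain ⟨β, hβ⟩ : ∃ β, β = polar Q v' s := ⟨_, rfl⟩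
        obtain ⟨s₁, hs₁⟩ : ∃ s₁, s₁ = s + (-β) • v := ⟨_, rfl⟩
        have hs₁Y : s₁ ∈ Y := by
          rw [hYdef, hW, hs₁]
          refine ⟨⟨mem_cp.2 ⟨?_, ?_⟩, ?_⟩, mem_cp.2 ⟨?_, ?_⟩⟩
          · rw [polar_add_right, polar_smul_right, hvs, hv.polar_left]; simp
          · rw [polar_add_right, polar_smul_right, ← hβ, hv.pair']; simp
          · show polar Q z _ = 0
            rw [polar_add_right, polar_smul_right, hzs, hzv]; simp
          · rw [polar_add_right, polar_smul_right, hs, hev]; simp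
          · rw [polar_add_right, polar_smul_right, hs', hu'v]; simp
        obtain ⟨k, hk, hk1, hk2⟩ := lift1 s₁ hs₁Y (mY hs₁Y).2.1
        refine ⟨k, hk, hk1, fun x hx => ?_⟩
        obtain ⟨c, hc⟩ := hk2 x hx
        refine ⟨c - β * polar Q e x, ?_⟩
        have hQs : Q s₁ = Q s := by
          rw [hs₁, Q_add, QuadraticMap.map_smul, hv.left, polar_smul_right, polar_comm Q s v, hvs]; simp
        have hps : polar Q s₁ x = polar Q s x := by
          rw [hs₁, polar_add_left, polar_smul_left, hx]; simp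
        rw [hc, siegel_apply, siegel_apply, hQs, hps, hs₁]
        module
      tor := by
        refine ⟨kt, hkt, kt1, ?_, ?_, ?_⟩
        · obtain ⟨c, hc⟩ := kt2 e hvu
          exact ⟨c, by rw [hc, t1']⟩
        · obtain ⟨c, hc⟩ := kt2 u' hvu'
          exact ⟨c, by rw [hc, t2']⟩
        · intro x h1 h3 h4
          obtain ⟨c, hc⟩ := kt2 x h1
          exact ⟨c, by rw [hc, t3' x h3 h4]⟩
      sie := S2
      val := by
        intro c hc0
        obtain ⟨s, hs, hsc⟩ := val c hc0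
        exact ⟨s, (mY hs).2.1, (mW (mY hs).1).1, (mW (mY hs).1).2.2, (mY hs).2.2, hsc⟩
      sieg := sieg
      θ0 := hθ0
      θ1 := hω1
      pyth := hpyth }
  exact hYS.false hG h7 h2 (by omega) hH hc hdis

omit [Finite F] [FiniteDimensional F V] in
/-- an element of `EY Q W` restricts to an element of `E (res Q W)` -/
theorem exists_res {W : Submodule F V} {e : V ≃ₗ[F] V} (he : e ∈ EY Q W) :
    ∃ e₀ ∈ E (res Q W), ∀ w : W, ((e₀ w : W) : V) = e w := by
  induction he using Subgroup.closure_induction with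
  | mem x hx =>
    obtain ⟨u, w, hu, hw, huW, hwW, rfl⟩ := hx
    refine ⟨siegel (res Q W) ⟨u, huW⟩ ⟨w, hwW⟩ hu hw, siegel_mem_E _ _, fun y => ?_⟩
    rw [siegel_apply hu hw, siegel_apply (Q := res Q W) (u := ⟨u, huW⟩) (w := ⟨w, hwW⟩) hu hw]
    rfl
  | one => exact ⟨1, (E _).one_mem, fun y => rfl⟩
  | mul x y _ _ ihx ihy =>
    obtain ⟨x', hx', ex⟩ := ihx
    obtain ⟨y', hy', ey⟩ := ihy
    refine ⟨x' * y', (E _).mul_mem hx' hy', fun z => ?_⟩
    show ((x' (y' z) : W) : V) = x (y z)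
    rw [ex, ey]
  | inv x _ ihx =>
    obtain ⟨x', hx', ex⟩ := ihx
    refine ⟨x'⁻¹, (E _).inv_mem hx', fun z => ?_⟩
    show _ = x.symm z
    rw [LinearEquiv.eq_symm_apply, ← ex]
    congr 1
    exact LinearEquiv.apply_symm_apply x' z

/-- **the second factor fixes a singular point**, with the group `E (res Q W)` -/
theorem no_hex_v' {H K : Subgroup (V ≃ₗ[F] V)} (hG : Good Q) (h7 : Module.finrank F V = 7) (h2 : (2 : F) ≠ 0)
    (hq : 13 < Nat.card F) (hH : H ≤ O Q) (hK : K ≤ O Q) (hc : Nat.card F ^ 6 ∣ Nat.card H)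
    (hdis : ∀ t ∈ E Q, ∀ h ∈ H, t * h * t⁻¹ ∈ K → h = 1) {v v' z : V} (hv : Hyp Q v v') (hz : z ∈ cp Q v v')
    (hQz : Q z ≠ 0) (fixv : ∀ k ∈ K, ∃ c : F, k v = c • v) (fixz : ∀ k ∈ K, ∃ a b : F, k z = a • z + b • v)
    {W : Submodule F V} (hW : W = cp Q v v' ⊓ LinearMap.ker (polarBilin Q z)) {e : V} (heW : e ∈ W) (he : Q e = 0) (he0 : e ≠ 0)
    (S1 : ∀ e ∈ E (res Q W), ∃ k ∈ K, ∀ w : W, ∃ c : F, k w = (e w : V) + c • v)
    (S2 : ∃ t : F, t ≠ 0 ∧ Has Q K v (t • z)) : False := by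
  refine no_hex_v hG h7 h2 hq hH hK hc hdis hv hz hQz fixv fixz hW heW he he0 (fun e he => ?_) S2
  obtain ⟨e₀, he₀, hee⟩ := exists_res he
  obtain ⟨k, hk, hkw⟩ := S1 e₀ he₀
  refine ⟨k, hk, fun w hw => ?_⟩
  obtain ⟨c, hc⟩ := hkw ⟨w, hw⟩
  exact ⟨c, by rw [hc, hee]⟩

end Cfsg.Agent.H830.Hex
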