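import Cfsg.Agent.H883.Sub
import Cfsg.Agent.H916.QuadLemmas

/-!
# S3691, `Ω₇(q)`: Siegel transformations, conjugacy (helper830)

* `Two Q H a w c z` : `H` contains `siegel a w * siegel c z`
* `conj_one` : `siegel u w`, `siegel u₁ w₁` with `Q w = Q w₁ ≠ 0` are conjugate in `E Q`
* `point_trans` : transitivity on the singular points of a nondegenerate subspace of dimension at least 3
-/

set_option autoImplicit false
set_option linter.unusedSectionVars false

namespace Cfsg.Agent.H830.Hex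

open QuadraticMap Cfsg.Agent.LieClassical.OrthCore Cfsg.Agent.LieClassical.OrthTrans
  Cfsg.Agent.LieClassical.OrthSimple Cfsg.Agent.H883.Sub Cfsg.Agent.H883.Root Cfsg.Agent.H916.QuadLemmas

variable {F V : Type*} [Field F] [AddCommGroup V] [Module F V] {Q : QuadraticForm F V}

/-- `H` contains the product of two Siegel transformations. -/
def Two (Q : QuadraticForm F V) (H : Subgroup (V ≃ₗ[F] V)) (a w c z : V) : Prop :=
  ∃ (ha : Q a = 0) (hw : polar Q a w = 0) (hc : Q c = 0) (hz : polar Q c z = 0),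
    siegel Q a w ha hw * siegel Q c z hc hz ∈ H

/-- a nonzero vector of `W` orthogonal to `n < dim W` vectors -/
theorem exists_mem_perp [FiniteDimensional F V] {n : ℕ} {W : Submodule F V} (u : Fin n → V) (hn : n < Module.finrank F W) :
    ∃ v ∈ W, v ≠ 0 ∧ ∀ i, polar Q (u i) v = 0 := by
  let f : W →ₗ[F] (Fin n → F) := LinearMap.pi fun i => (polarBilin Q (u i)).comp W.subtype
  have h1 : LinearMap.ker f ≠ ⊥ := by
    intro h
    have h2 := LinearMap.finrank_le_finrank_of_injective (LinearMap.ker_eq_bot.1 h)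
    rw [Module.finrank_fin_fun] at h2
    omega
  obtain ⟨v, hv, hv0⟩ := Submodule.exists_mem_ne_zero_of_ne_bot h1
  refine ⟨v, v.2, fun h => hv0 (Subtype.ext h), fun i => ?_⟩
  exact congrFun (LinearMap.mem_ker.1 hv) i

/-- totally singular subspaces of a nondegenerate space of dimension 7 -/
theorem finrank_le_three [FiniteDimensional F V] (hQ : Nondeg Q) (h7 : Module.finrank F V = 7) {S : Submodule F V}
    (hS : ∀ x ∈ S, ∀ y ∈ S, polar Q x y = 0) : Module.finrank F S ≤ 3 := by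
  have h1 : S ≤ perp Q S := fun x hx => mem_perp.2 fun w hw => hS w hw x hx
  have h2 := Submodule.finrank_mono h1
  have h3 := finrank_perp hQ S
  omega

theorem siegel_eq {u u' w w' : V} (hu : Q u = 0) (hw : polar Q u w = 0) (hu' : Q u' = 0) (hw' : polar Q u' w' = 0)
    (e1 : u = u') (e2 : w = w') : siegel Q u w hu hw = siegel Q u' w' hu' hw' := by
  subst e1 e2
  rfl

theorem siegel_add_self {u w : V} {c : F} (hu : Q u = 0) (hw : polar Q u w = 0) (hw' : polar Q u (w + c • u) = 0) :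
    siegel Q u (w + c • u) hu hw' = siegel Q u w hu hw := by
  ext v
  have hwu : polar Q w u = 0 := by rw [polar_comm]; exact hw
  rw [siegel_apply, siegel_apply, Q_add, QuadraticMap.map_smul, hu, polar_smul_right, hwu, polar_add_left, polar_smul_left]
  simp only [smul_eq_mul, mul_zero, add_zero]
  module

/-- conjugation of a Siegel transformation -/
theorem siegel_conj' {g : V ≃ₗ[F] V} (hg : g ∈ O Q) {u w u' w' : V} (hu : Q u = 0) (hw : polar Q u w = 0)
    (hu' : Q u' = 0) (hw' : polar Q u' w' = 0) (e1 : g u = u') (e2 : g w = w') :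
    g * siegel Q u w hu hw * g⁻¹ = siegel Q u' w' hu' hw' := by
  subst e1 e2
  exact siegel_conj hg hu hw hu' hw'

variable [Finite F] [FiniteDimensional F V]

/-- **Siegel transformations with nonsingular second vector** -/
theorem conj_one (hG : Good Q) (h7 : 7 ≤ Module.finrank F V) {u w u₁ w₁ : V} (hu0 : u ≠ 0) (hu₁0 : u₁ ≠ 0) (hu : Q u = 0)
    (hw : polar Q u w = 0) (hu₁ : Q u₁ = 0) (hw₁ : polar Q u₁ w₁ = 0) (hQw : Q w ≠ 0) (h : Q w = Q w₁) :
    ∃ g ∈ E Q, g * siegel Q u w hu hw * g⁻¹ = siegel Q u₁ w₁ hu₁ hw₁ := by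
  obtain ⟨y, hy⟩ := Cfsg.Agent.LieClassical.OrthTrans.exists_hyp hG.nondeg hu hu0
  obtain ⟨y₁, hy₁⟩ := Cfsg.Agent.LieClassical.OrthTrans.exists_hyp hG.nondeg hu₁ hu₁0
  obtain ⟨g1, hg1, e1, e2⟩ := hG.trans_hyp hy hy₁
  have hgO := E_le_O hg1
  have hwu : polar Q w u = 0 := by rw [polar_comm]; exact hw
  have hwu₁ : polar Q w₁ u₁ = 0 := by rw [polar_comm]; exact hw₁
  obtain ⟨s, hs⟩ : ∃ s, s = w + (-polar Q y w) • u := ⟨_, rfl⟩
  obtain ⟨s₁, hs₁⟩ : ∃ s, s = w₁ + (-polar Q y₁ w₁) • u₁ := ⟨_, rfl⟩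
  have hQs : Q s = Q w := by
    rw [hs, Q_add, QuadraticMap.map_smul, hu, polar_smul_right, hwu]; simp
  have hQs₁ : Q s₁ = Q w₁ := by
    rw [hs₁, Q_add, QuadraticMap.map_smul, hu₁, polar_smul_right, hwu₁]; simp
  have hus : polar Q u s = 0 := by rw [hs, polar_add_right, polar_smul_right, hw, hy.polar_left]; simp
  have hys : polar Q y s = 0 := by rw [hs, polar_add_right, polar_smul_right, hy.pair']; simp
  have hus₁ : polar Q u₁ s₁ = 0 := by rw [hs₁, polar_add_right, polar_smul_right, hw₁, hy₁.polar_left]; simp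
  have hys₁ : polar Q y₁ s₁ = 0 := by rw [hs₁, polar_add_right, polar_smul_right, hy₁.pair']; simp
  have hGY : Good (res Q (cp Q u₁ y₁)) :=
    good_res (nondegOn_cp hG.nondeg hy₁) (by have := finrank_cp hG.nondeg u₁ y₁; omega)
  have m1 : g1 s ∈ cp Q u₁ y₁ := mem_cp.2 ⟨by rw [← e1, polar_map hgO]; exact hus, by rw [← e2, polar_map hgO]; exact hys⟩
  have m2 : s₁ ∈ cp Q u₁ y₁ := mem_cp.2 ⟨hus₁, hys₁⟩
  have hn : Q (g1 s) = Q s₁ := by rw [mem_O.1 hgO, hQs, hQs₁, h]
  have hne : ∀ {t : V}, Q t ≠ 0 → t ≠ 0 := by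
    rintro t ht rfl
    exact ht (QuadraticMap.map_zero Q)
  obtain ⟨g2, hg2, e3⟩ := EY_trans_norm hGY m1 m2 hn (hne (by rw [hn, hQs₁, ← h]; exact hQw))
    (hne (by rw [hQs₁, ← h]; exact hQw))
  have hg2O := E_le_O (EY_le_E hg2)
  have e4 : g2 u₁ = u₁ := EY_fix hg2 fun y hy => by rw [polar_comm]; exact (mem_cp.1 hy).1
  refine ⟨g2 * g1, E_mul (EY_le_E hg2) hg1, ?_⟩
  have h5 : polar Q u s = 0 := hus
  have h6 : siegel Q u w hu hw = siegel Q u s hu hus := by
    have h7 : w = s + polar Q y w • u := by rw [hs]; module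
    rw [siegel_eq hu hw hu (by rw [← h7]; exact hw) rfl h7, siegel_add_self hu hus]
  have h8 : siegel Q u₁ w₁ hu₁ hw₁ = siegel Q u₁ s₁ hu₁ hus₁ := by
    have h7 : w₁ = s₁ + polar Q y₁ w₁ • u₁ := by rw [hs₁]; module
    rw [siegel_eq hu₁ hw₁ hu₁ (by rw [← h7]; exact hw₁) rfl h7, siegel_add_self hu₁ hus₁]
  rw [h6, h8]
  refine siegel_conj' ((O Q).mul_mem hg2O hgO) hu hus hu₁ hus₁ ?_ ?_
  · show g2 (g1 u) = u₁
    rw [e1, e4]
  · show g2 (g1 s) = s₁
    exact e3

/-- a partner of `x` orthogonal to a given vector -/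
theorem exists_partner {Y : Submodule F V} (hY : NondegOn Q Y) {x z : V} (hxY : x ∈ Y) (hzY : z ∈ Y) (hx : Q x = 0)
    (h : ∀ c : F, x ≠ c • z) (hxz : polar Q x z = 0) : ∃ y ∈ Y, Hyp Q x y ∧ polar Q z y = 0 := by
  obtain ⟨y, h1, h2⟩ := exists_sep (Q := res Q Y) (x := ⟨x, hxY⟩) (z := ⟨z, hzY⟩) hY.res
    (fun c hc => h c (congrArg Subtype.val hc))
  have h1' : polar Q z (y : V) = 0 := h1
  have h2' : polar Q x (y : V) = 1 := h2
  refine ⟨(y : V) + (-Q (y : V)) • x, Y.add_mem y.2 (Y.smul_mem _ hxY), ⟨hx, ?_, ?_⟩, ?_⟩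
  · rw [Q_add, QuadraticMap.map_smul, hx, polar_smul_right, polar_comm Q (y : V) x, h2']; simp
  · rw [polar_add_right, polar_smul_right, h2', polar_self_of_sing hx]; simp
  · rw [polar_add_right, polar_smul_right, h1', polar_comm Q z x, hxz]; simp

/-- a singular vector not orthogonal to two given ones -/
theorem exists_common {Y : Submodule F V} (hY : NondegOn Q Y) (hd : 3 ≤ Module.finrank F Y) {c c₁ : V}
    (hcY : c ∈ Y) (hc₁Y : c₁ ∈ Y) (hc : Q c = 0) (hc₁ : Q c₁ = 0) (hc0 : c ≠ 0) (hc₁0 : c₁ ≠ 0) :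
    ∃ e ∈ Y, Q e = 0 ∧ polar Q e c = 1 ∧ polar Q e c₁ ≠ 0 := by
  suffices h : ∃ e ∈ Y, Q e = 0 ∧ polar Q e c ≠ 0 ∧ polar Q e c₁ ≠ 0 by
    obtain ⟨e, h1, h3, h4, h5⟩ := h
    refine ⟨(polar Q e c)⁻¹ • e, Y.smul_mem _ h1, by rw [QuadraticMap.map_smul, h3, smul_zero], ?_, ?_⟩
    · rw [polar_smul_left, smul_eq_mul, inv_mul_cancel₀ h4]
    · rw [polar_smul_left, smul_eq_mul]; exact mul_ne_zero (inv_ne_zero h4) h5
  by_cases h0 : polar Q c c₁ = 0
  · by_cases hp : ∃ m : F, c = m • c₁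
    · obtain ⟨m, hm⟩ := hp
      have hm0 : m ≠ 0 := by rintro rfl; exact hc0 (by rw [hm, zero_smul])
      obtain ⟨t, htY, ht⟩ := hY.exists_polar_eq hc₁Y hc₁0 1
      refine ⟨t + (-Q t) • c₁, Y.add_mem htY (Y.smul_mem _ hc₁Y), ?_, ?_, ?_⟩
      · rw [Q_add, QuadraticMap.map_smul, hc₁, polar_smul_right, polar_comm Q t c₁, ht]; simp
      · rw [hm, polar_smul_right, polar_add_left, polar_smul_left, polar_comm Q t c₁, ht, polar_self_of_sing hc₁]
        simpa using hm0
      · rw [polar_add_left, polar_smul_left, polar_comm Q t c₁, ht, polar_self_of_sing hc₁]; simp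
    · push Not at hp
      obtain ⟨y, hyY, hy1, hy2⟩ := exists_partner hY hcY hc₁Y hc hp h0
      have hp' : ∀ m : F, c₁ ≠ m • c := by
        intro m hm
        have hm0 : m ≠ 0 := by rintro rfl; exact hc₁0 (by rw [hm, zero_smul])
        exact hp m⁻¹ (by rw [hm, smul_smul, inv_mul_cancel₀ hm0, one_smul])
      obtain ⟨y', hyY', hy1', hy2'⟩ := exists_partner hY hc₁Y hcY hc₁ hp' (by rw [polar_comm]; exact h0)
      refine ⟨y + y' + (-polar Q y y') • c, Y.add_mem (Y.add_mem hyY hyY') (Y.smul_mem _ hcY), ?_, ?_, ?_⟩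
      · rw [Q_add, Q_add, QuadraticMap.map_smul, hc, hy1.right, hy1'.right, polar_smul_right, polar_add_left, hy1.pair',
          polar_comm Q y' c, hy2']
        simp
      · rw [polar_add_left, polar_add_left, polar_smul_left, hy1.pair', polar_comm Q y' c, hy2', polar_self_of_sing hc]; simp
      · rw [polar_add_left, polar_add_left, polar_smul_left, polar_comm Q y c₁, hy2, hy1'.pair', h0]; simp
  · -- a vector orthogonal to `c` and `c₁`
    set k := polar Q c c₁ with hk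
    have hmem : ∀ t ∈ Y, t + (-(polar Q c₁ t * k⁻¹)) • c + (-(polar Q c t * k⁻¹)) • c₁ ∈ Y := fun t ht =>
      Y.add_mem (Y.add_mem ht (Y.smul_mem _ hcY)) (Y.smul_mem _ hc₁Y)
    have hk' : polar Q c₁ c = k := by rw [polar_comm]
    have hor : ∀ t, polar Q c (t + (-(polar Q c₁ t * k⁻¹)) • c + (-(polar Q c t * k⁻¹)) • c₁) = 0 := by
      intro t
      rw [polar_add_right, polar_add_right, polar_smul_right, polar_smul_right, polar_self_of_sing hc, ← hk]
      simp only [smul_eq_mul, mul_zero, add_zero]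
      field_simp
      ring
    have hor₁ : ∀ t, polar Q c₁ (t + (-(polar Q c₁ t * k⁻¹)) • c + (-(polar Q c t * k⁻¹)) • c₁) = 0 := by
      intro t
      rw [polar_add_right, polar_add_right, polar_smul_right, polar_smul_right, polar_self_of_sing hc₁, hk']
      simp only [smul_eq_mul, mul_zero, add_zero]
      field_simp
      ring
    obtain ⟨d₀, hd₀Y, hd₀, hd₀'⟩ := exists_mem_perp (Q := Q) (W := Y) ![c, c₁] (by omega)
    have e1 : polar Q c d₀ = 0 := hd₀' 0
    have e2 : polar Q c₁ d₀ = 0 := hd₀' 1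
    obtain ⟨d, hdY, hQd, e3, e4⟩ : ∃ d ∈ Y, Q d ≠ 0 ∧ polar Q c d = 0 ∧ polar Q c₁ d = 0 := by
      by_contra hcon
      push Not at hcon
      apply hd₀
      refine hY d₀ hd₀Y fun t ht => ?_
      set t' := t + (-(polar Q c₁ t * k⁻¹)) • c + (-(polar Q c t * k⁻¹)) • c₁ with ht'
      have h3 : polar Q d₀ t' = polar Q d₀ t := by
        rw [ht', polar_add_right, polar_add_right, polar_smul_right, polar_smul_right, polar_comm Q d₀ c, polar_comm Q d₀ c₁,
          e1, e2]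
        simp
      have h4 : Q d₀ = 0 := by
        by_contra h5
        exact hcon d₀ hd₀Y h5 e1 e2
      have h5 : Q t' = 0 := by
        by_contra h5
        exact hcon t' (hmem t ht) h5 (hor t) (hor₁ t)
      have h6 : Q (d₀ + t') = 0 := by
        by_contra h6
        refine hcon _ (Y.add_mem hd₀Y (hmem t ht)) h6 ?_ ?_
        · rw [polar_add_right, e1, hor t, add_zero]
        · rw [polar_add_right, e2, hor₁ t, add_zero]
      rw [Q_add, h4, h5, zero_add, zero_add] at h6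
      rw [← h3, h6]
    refine ⟨c + d + (-(Q d * k⁻¹)) • c₁, Y.add_mem (Y.add_mem hcY hdY) (Y.smul_mem _ hc₁Y), ?_, ?_, ?_⟩
    · rw [Q_add, Q_add, QuadraticMap.map_smul, hc, hc₁, polar_smul_right, polar_add_left, ← hk, polar_comm Q d c₁, e4, e3]
      simp only [smul_eq_mul, mul_zero, add_zero, zero_add]
      field_simp
      ring
    · rw [polar_add_left, polar_add_left, polar_smul_left, polar_self_of_sing hc, hk', polar_comm Q d c, e3]
      simp only [smul_eq_mul, zero_add]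
      rw [neg_mul, mul_assoc, inv_mul_cancel₀ h0, mul_one]
      exact neg_ne_zero.2 hQd
    · rw [polar_add_left, polar_add_left, polar_smul_left, polar_self_of_sing hc₁, ← hk, polar_comm Q d c₁, e4]
      simpa using h0

/-- transitivity on the singular points of a nondegenerate subspace of dimension at least 3 -/
theorem point_trans {Y : Submodule F V} (hY : NondegOn Q Y) (hd : 3 ≤ Module.finrank F Y) {c c₁ : V}
    (hcY : c ∈ Y) (hc₁Y : c₁ ∈ Y) (hc : Q c = 0) (hc₁ : Q c₁ = 0) (hc0 : c ≠ 0) (hc₁0 : c₁ ≠ 0) :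
    ∃ g ∈ E Q, ∃ μ : F, μ ≠ 0 ∧ g c = μ • c₁ ∧ ∀ v, (∀ y ∈ Y, polar Q y v = 0) → g v = v := by
  obtain ⟨e, heY, he, he1, he2⟩ := exists_common hY hd hcY hc₁Y hc hc₁ hc0 hc₁0
  set m := (polar Q e c₁)⁻¹ with hm
  have hm0 : m ≠ 0 := inv_ne_zero he2
  have h' : Hyp Q e (m • c₁) := ⟨he, by rw [QuadraticMap.map_smul, hc₁, smul_zero],
    by rw [polar_smul_right, smul_eq_mul, hm, inv_mul_cancel₀ he2]⟩
  have hw : polar Q e (m • c₁ - c) = 0 := by rw [polar_sub_right, h'.pair, he1, sub_self]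
  refine ⟨siegel Q e (m • c₁ - c) he hw, siegel_mem_E _ _, m, hm0, ?_, fun v hv => ?_⟩
  · have hQ' : Q (m • c₁ - c) = - polar Q (m • c₁) c := by
      rw [sub_eq_add_neg, Q_add, QuadraticMap.map_neg, polar_neg_right, hc, h'.right]
      ring
    rw [siegel_apply, he1, hQ', polar_sub_left, polar_self_of_sing hc]
    module
  · exact siegel_fix he hw (hv e heY) (hv _ (Y.sub_mem (Y.smul_mem _ hc₁Y) hcY))

end Cfsg.Agent.H830.Hex
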