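import Cfsg.Agent.H830.Rg.HexA
import Cfsg.Agent.H445.AH.OTrans
import Cfsg.Agent.ClassicalGeometry.OrthAut2

/-!
# S3691, `Ω₇(q)`: the factor with a normal group of Siegel transformations (helper830)

`K ≤ O Q`, `dim V = 7`, `v` singular, `z ∈ v^⊥` nonsingular, `(u, u')` a hyperbolic pair orthogonal to `v`, `z`.
* `Lf K v u s k` : `k ∈ K` fixes `v` and acts on `v^⊥ / v` as `siegel u s`
* `YS` : the hypotheses on `K`
* `YS.has` : `K` contains `siegel u (s + f v)`
-/

set_option autoImplicit false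
set_option linter.unusedSectionVars false

namespace Cfsg.Agent.H830.Hex

open QuadraticMap Cfsg.Agent.LieClassical.OrthCore Cfsg.Agent.LieClassical.OrthTrans
  Cfsg.Agent.LieClassical.OrthSimple Cfsg.Agent.H883.Sub Cfsg.Agent.H883.Root Cfsg.Agent.H916.QuadLemmas

variable {F V : Type*} [Field F] [AddCommGroup V] [Module F V] {Q : QuadraticForm F V}

/-- `k` fixes `v` and acts on `v^⊥ / v` as `siegel u s` -/
def Lf (Q : QuadraticForm F V) (v u s : V) (hu : Q u = 0) (hs : polar Q u s = 0) (k : V ≃ₗ[F] V) : Prop :=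
  k v = v ∧ ∀ x, polar Q v x = 0 → ∃ c : F, k x = siegel Q u s hu hs x + c • v

/-- The hypotheses on the factor. -/
structure YS (Q : QuadraticForm F V) (K : Subgroup (V ≃ₗ[F] V)) (v z u u' : V) (θ : F) : Prop where
  le : K ≤ O Q
  v0 : v ≠ 0
  qv : Q v = 0
  qz : Q z ≠ 0
  vz : polar Q v z = 0
  hyp : Hyp Q u u'
  vu : polar Q v u = 0
  vu' : polar Q v u' = 0
  zu : polar Q z u = 0
  zu' : polar Q z u' = 0
  lift : ∀ s (hs : polar Q u s = 0), polar Q v s = 0 → polar Q z s = 0 → polar Q u' s = 0 →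
    ∃ k ∈ K, Lf Q v u s hyp.left hs k
  tor : ∃ k ∈ K, k v = v ∧ (∃ c : F, k u = θ • u + c • v) ∧ (∃ c : F, k u' = θ⁻¹ • u' + c • v) ∧
    ∀ x, polar Q v x = 0 → polar Q u x = 0 → polar Q u' x = 0 → ∃ c : F, k x = x + c • v
  sie : ∃ t : F, t ≠ 0 ∧ Has Q K v (t • z)
  val : ∀ c : F, c ≠ 0 → ∃ s, polar Q u s = 0 ∧ polar Q v s = 0 ∧ polar Q z s = 0 ∧ polar Q u' s = 0 ∧ Q s = c
  sieg : ∀ c, Has Q K v c → ∃ α β : F, c = α • z + β • v
  θ0 : θ ≠ 0
  θ1 : θ ≠ 1
  pyth : ∃ i j l : ℕ, θ ^ i + θ ^ j = θ ^ l ∧ (θ ^ i) * (θ ^ i) + θ ^ i * θ ^ j + θ ^ j * θ ^ j ≠ 0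

variable {K : Subgroup (V ≃ₗ[F] V)} {v z u u' : V} {θ : F}

/-- isometries which agree on `v^⊥` are equal -/
theorem eq_of_perp (hQ : Nondeg Q) {v : V} (hv : Q v = 0) (hv0 : v ≠ 0) {g h : V ≃ₗ[F] V} (hg : g ∈ O Q) (hh : h ∈ O Q)
    (e : ∀ x, polar Q v x = 0 → g x = h x) : g = h := by
  obtain ⟨v', hv'⟩ := Cfsg.Agent.LieClassical.OrthTrans.exists_hyp hQ hv hv0
  have hvv : g v = h v := e v (polar_self_of_sing hv)
  suffices h1 : g v' = h v' by
    ext x
    have hx : x = (x + (-polar Q v x) • v') + polar Q v x • v' := by module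
    have hp : polar Q v (x + (-polar Q v x) • v') = 0 := by
      rw [polar_add_right, polar_smul_right, hv'.pair]; simp
    rw [hx, map_add, map_add h, e _ hp, map_smul, map_smul h, h1]
  obtain ⟨d, hd⟩ : ∃ d, d = h⁻¹ (g v') - v' := ⟨_, rfl⟩
  have hgh : h⁻¹ * g ∈ O Q := (O Q).mul_mem ((O Q).inv_mem hh) hg
  have hfix : ∀ x, polar Q v x = 0 → (h⁻¹ * g) x = x := by
    intro x hx
    show h.symm (g x) = x
    rw [e x hx, LinearEquiv.symm_apply_apply]
  have hd' : (h⁻¹ * g) v' = v' + d := by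
    rw [hd]; show _ = v' + ((h⁻¹ * g) v' - v'); abel
  have h2 : ∀ x, polar Q v x = 0 → polar Q d x = 0 := by
    intro x hx
    have h3 := polar_map hgh v' x
    rw [hfix x hx, hd', polar_add_left] at h3
    linear_combination h3
  have h4 : ∃ m : F, d = m • v := by
    refine ⟨polar Q v' d, ?_⟩
    rw [← sub_eq_zero]
    apply hQ
    intro x
    have hp : polar Q v (x + (-polar Q v x) • v') = 0 := by
      rw [polar_add_right, polar_smul_right, hv'.pair]; simp
    have h5 := h2 _ hp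
    rw [polar_add_right, polar_smul_right, polar_comm Q d v'] at h5
    rw [polar_sub_left, polar_smul_left]
    simp only [smul_eq_mul] at h5 ⊢
    linear_combination h5
  obtain ⟨m, hm⟩ := h4
  have h5 : Q (v' + m • v) = 0 := by rw [← hm, ← hd', mem_O.1 hgh, hv'.right]
  rw [Q_add, QuadraticMap.map_smul, hv, hv'.right, polar_smul_right, hv'.pair'] at h5
  have hm0 : m = 0 := by simpa using h5
  have h6 : h⁻¹ (g v') = v' := by
    have : h⁻¹ (g v') = v' + d := hd'
    rw [this, hm, hm0, zero_smul, add_zero]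
  have h7 := congrArg h h6
  have h8 : h (h⁻¹ (g v')) = g v' := LinearEquiv.apply_symm_apply h (g v')
  rw [h8] at h7
  exact h7

theorem Lf.mul {s s' : V} {hu : Q u = 0} {hs : polar Q u s = 0} {hs' : polar Q u s' = 0} {k k' : V ≃ₗ[F] V}
    (hvu : polar Q v u = 0) (hvs' : polar Q v s' = 0)
    (h : Lf Q v u s hu hs k) (h' : Lf Q v u s' hu hs' k') (hss : polar Q u (s + s') = 0) :
    Lf Q v u (s + s') hu hss (k * k') := by
  refine ⟨by show k (k' v) = v; rw [h'.1, h.1], fun x hx => ?_⟩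
  obtain ⟨c', hc'⟩ := h'.2 x hx
  have hp : polar Q v (siegel Q u s' hu hs' x) = 0 := by
    rw [siegel_apply, polar_sub_right, polar_sub_right, polar_add_right, polar_smul_right, polar_smul_right,
      polar_smul_right, hx, hvs', hvu]
    simp
  obtain ⟨c, hc⟩ := h.2 _ hp
  refine ⟨c + c', ?_⟩
  show k (k' x) = _
  rw [hc', map_add, map_smul, h.1, hc, ← siegel_mul hu hs hs' hss]
  show siegel Q u s hu hs (siegel Q u s' hu hs' x) + c • v + c' • v = _
  rw [add_smul, add_assoc]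
  rfl

theorem Lf.inv {s : V} {hu : Q u = 0} {hs : polar Q u s = 0} {k : V ≃ₗ[F] V}
    (hvu : polar Q v u = 0) (hvs : polar Q v s = 0)
    (h : Lf Q v u s hu hs k) (hss : polar Q u (-s) = 0) : Lf Q v u (-s) hu hss k⁻¹ := by
  have hv : k⁻¹ v = v := by
    have h1 := congrArg (fun y => k⁻¹ y) h.1
    have h2 : k⁻¹ (k v) = v := LinearEquiv.symm_apply_apply k v
    exact h1.symm.trans h2
  refine ⟨hv, fun x hx => ?_⟩
  have hp : polar Q v (siegel Q u (-s) hu hss x) = 0 := by
    rw [siegel_apply, polar_sub_right, polar_sub_right, polar_add_right, polar_smul_right, polar_smul_right,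
      polar_smul_right, polar_neg_right, hx, hvs, hvu]
    simp
  obtain ⟨c, hc⟩ := h.2 _ hp
  have h0 : siegel Q u s hu hs (siegel Q u (-s) hu hss x) = x := by
    have h1 : polar Q u (s + -s) = 0 := by rw [add_neg_cancel, polar_zero_right]
    have h2 := congrArg (fun g : V ≃ₗ[F] V => g x) (siegel_mul hu hs hss h1)
    have h3 : siegel Q u (s + -s) hu h1 x = x := by rw [siegel_apply]; simp
    exact h2.trans h3
  rw [h0] at hc
  refine ⟨-c, ?_⟩
  have h1 : k (siegel Q u (-s) hu hss x + (-c) • v) = x := by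
    rw [map_add, map_smul, hc, h.1]; module
  have h2 : k⁻¹ (k (siegel Q u (-s) hu hss x + (-c) • v)) = siegel Q u (-s) hu hss x + (-c) • v :=
    LinearEquiv.symm_apply_apply k _
  rw [← h2, h1]

theorem Lf.conj {s : V} {hu : Q u = 0} {hs : polar Q u s = 0} {k r : V ≃ₗ[F] V} (hr : r ∈ O Q) {l : F}
    (hrv : r v = v) (hru : r u = l • u) (hrs : r s = s)
    (h : Lf Q v u s hu hs k) (hss : polar Q u (l • s) = 0) : Lf Q v u (l • s) hu hss (r * k * r⁻¹) := by
  have hrv' : r⁻¹ v = v := by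
    have h2 : r⁻¹ (r v) = v := LinearEquiv.symm_apply_apply r v
    rw [hrv] at h2
    exact h2
  refine ⟨by show r (k (r⁻¹ v)) = v; rw [hrv', h.1, hrv], fun x hx => ?_⟩
  have hp : polar Q v (r⁻¹ x) = 0 := by
    rw [← hrv', polar_map ((O Q).inv_mem hr)]; exact hx
  obtain ⟨c, hc⟩ := h.2 _ hp
  refine ⟨c, ?_⟩
  show r (k (r⁻¹ x)) = _
  rw [hc, map_add, map_smul, hrv]
  congr 1
  have hu' : Q (l • u) = 0 := by rw [QuadraticMap.map_smul, hu, smul_zero]
  have hs' : polar Q (l • u) s = 0 := by rw [polar_smul_left, hs, smul_zero]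
  have h1 : r * siegel Q u s hu hs * r⁻¹ = siegel Q u (l • s) hu hss := by
    rw [siegel_conj' hr hu hs hu' hs' hru hrs, siegel_smul_left hu hu' hs' hss]
  rw [← h1]
  rfl

/-- powers of an element acting as `x ↦ a x` modulo `v` -/
theorem pow_mod {k : V ≃ₗ[F] V} (hv : k v = v) {x : V} {a : F} (hx : ∃ c : F, k x = a • x + c • v) (n : ℕ) :
    ∃ c : F, (k ^ n) x = a ^ n • x + c • v := by
  obtain ⟨c, hc⟩ := hx
  induction n with
  | zero => exact ⟨0, by simp⟩
  | succ n ih =>
    obtain ⟨d, hd⟩ := ih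
    refine ⟨a ^ n * c + d, ?_⟩
    have h1 : (k ^ (n + 1)) x = k ((k ^ n) x) := by rw [pow_succ']; rfl
    rw [h1, hd, map_add, map_smul, map_smul, hc, hv, smul_add, smul_smul, smul_smul, pow_succ, add_assoc, add_smul]

theorem pow_v {k : V ≃ₗ[F] V} (hv : k v = v) (n : ℕ) : (k ^ n) v = v := by
  induction n with
  | zero => simp
  | succ n ih =>
    have h1 : (k ^ (n + 1)) v = k ((k ^ n) v) := by rw [pow_succ']; rfl
    rw [h1, ih, hv]

theorem pow_one_add {k : V ≃ₗ[F] V} (hv : k v = v) {x : V} {c : F} (hx : k x = x + c • v) (n : ℕ) :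
    (k ^ n) x = x + ((n : F) * c) • v := by
  induction n with
  | zero => simp
  | succ n ih =>
    have h1 : (k ^ (n + 1)) x = k ((k ^ n) x) := by rw [pow_succ']; rfl
    rw [h1, ih, map_add, map_smul, hx, hv, Nat.cast_succ, add_mul, one_mul]
    module

/-- **the torus element can be chosen of order prime to `p`, acting diagonally** -/
theorem YS.exists_tor [Finite F] [Finite V] (h : YS Q K v z u u' θ) :
    ∃ (w w' : V) (k : V ≃ₗ[F] V), k ∈ K ∧ YS Q K v z w w' θ ∧ k v = v ∧ k w = θ • w ∧ k w' = θ⁻¹ • w' ∧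
      ∀ x, polar Q v x = 0 → polar Q w x = 0 → polar Q w' x = 0 → k x = x := by
  obtain ⟨k₀, hk₀, hv, hu, hu', hx⟩ := h.tor
  have hfin : Finite (V ≃ₗ[F] V) := Finite.of_injective (fun e : V ≃ₗ[F] V => (e : V → V)) DFunLike.coe_injective
  have := Fintype.ofFinite F
  obtain ⟨p, hp⟩ := CharP.exists F
  obtain ⟨f, hpp, hf⟩ := FiniteField.card F p
  have hfact := Fact.mk hpp
  -- the order
  obtain ⟨a, m, hm, ho⟩ : ∃ a m : ℕ, ¬ p ∣ m ∧ orderOf k₀ = p ^ a * m := by
    obtain ⟨a, m, h1, h2⟩ := Nat.exists_eq_pow_mul_and_not_dvd (orderOf_pos k₀).ne' p hpp.ne_one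
    exact ⟨a, m, h1, h2⟩
  set N := Fintype.card F ^ a with hN
  have hθN : ∀ b : F, b ^ N = b := fun b => FiniteField.pow_card_pow a b
  obtain ⟨k, hkdef⟩ : ∃ k, k = k₀ ^ N := ⟨_, rfl⟩
  have hkm : k ^ m = 1 := by
    rw [hkdef, ← pow_mul]
    have : orderOf k₀ ∣ N * m := by
      rw [ho, hN, hf]
      apply mul_dvd_mul_right
      rw [← pow_mul]
      exact pow_dvd_pow p (Nat.le_mul_of_pos_left a f.pos)
    exact orderOf_dvd_iff_pow_eq_one.1 this
  have hmF : (m : F) ≠ 0 := fun h0 => hm ((CharP.cast_eq_zero_iff F p m).1 h0)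
  have hkK : k ∈ K := by rw [hkdef]; exact K.pow_mem hk₀ N
  have hkv : k v = v := by rw [hkdef]; exact pow_v hv N
  have hku : ∃ c : F, k u = θ • u + c • v := by
    obtain ⟨c, hc⟩ := pow_mod hv hu N
    exact ⟨c, by rw [hkdef, hc, hθN]⟩
  have hku' : ∃ c : F, k u' = θ⁻¹ • u' + c • v := by
    obtain ⟨c, hc⟩ := pow_mod hv hu' N
    exact ⟨c, by rw [hkdef, hc, hθN]⟩
  have hkx : ∀ x, polar Q v x = 0 → polar Q u x = 0 → polar Q u' x = 0 → k x = x := by
    intro x h1 h2 h3
    obtain ⟨c, hc⟩ := hx x h1 h2 h3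
    obtain ⟨d, hd⟩ := pow_mod (a := (1 : F)) hv ⟨c, by rw [hc, one_smul]⟩ N
    rw [one_pow, one_smul, ← hkdef] at hd
    have h4 := pow_one_add hkv hd m
    rw [hkm] at h4
    have h5 : ((m : F) * d) • v = 0 := by
      have h6 : x = x + ((m : F) * d) • v := h4
      exact left_eq_add.1 h6
    rcases smul_eq_zero.1 h5 with h6 | h6
    · rcases mul_eq_zero.1 h6 with h7 | h7
      · exact absurd h7 hmF
      · rw [hd, h7, zero_smul, add_zero]
    · exact absurd h6 h.v0
  obtain ⟨c, hc⟩ := hku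
  obtain ⟨c', hc'⟩ := hku'
  have hθ1 : θ - 1 ≠ 0 := sub_ne_zero.2 h.θ1
  have hθ1' : θ⁻¹ - 1 ≠ 0 := by
    rw [sub_ne_zero]
    intro h0
    exact h.θ1 (by rw [← inv_inv θ, h0, inv_one])
  obtain ⟨b, hb⟩ : ∃ b, b = c * (θ - 1)⁻¹ := ⟨_, rfl⟩
  obtain ⟨b', hb'⟩ : ∃ b, b = c' * (θ⁻¹ - 1)⁻¹ := ⟨_, rfl⟩
  have hbc : b * (θ - 1) = c := by rw [hb, mul_assoc, inv_mul_cancel₀ hθ1, mul_one]
  have hbc' : b' * (θ⁻¹ - 1) = c' := by rw [hb', mul_assoc, inv_mul_cancel₀ hθ1', mul_one]
  have hvv := polar_self_of_sing h.qv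
  have huv : polar Q u v = 0 := by rw [polar_comm]; exact h.vu
  have huv' : polar Q u' v = 0 := by rw [polar_comm]; exact h.vu'
  have hzv : polar Q z v = 0 := by rw [polar_comm]; exact h.vz
  have hw1 : ∀ x, polar Q v x = 0 → polar Q (u + b • v) x = polar Q u x := by
    intro x hx; rw [polar_add_left, polar_smul_left, hx]; simp
  have hw2 : ∀ x, polar Q v x = 0 → polar Q (u' + b' • v) x = polar Q u' x := by
    intro x hx; rw [polar_add_left, polar_smul_left, hx]; simp
  have hyp : Hyp Q (u + b • v) (u' + b' • v) := by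
    refine ⟨?_, ?_, ?_⟩
    · rw [Q_add, QuadraticMap.map_smul, h.hyp.left, h.qv, polar_smul_right, huv]; simp
    · rw [Q_add, QuadraticMap.map_smul, h.hyp.right, h.qv, polar_smul_right, huv']; simp
    · rw [polar_add_left, polar_add_right, polar_smul_left, polar_smul_right, polar_add_right, polar_smul_right, h.hyp.pair,
        huv, h.vu', hvv]
      simp
  have hkw : k (u + b • v) = θ • (u + b • v) := by
    rw [map_add, map_smul, hc, hkv, ← hbc]; module
  have hkw' : k (u' + b' • v) = θ⁻¹ • (u' + b' • v) := by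
    rw [map_add, map_smul, hc', hkv, ← hbc']; module
  have hkx' : ∀ x, polar Q v x = 0 → polar Q (u + b • v) x = 0 → polar Q (u' + b' • v) x = 0 → k x = x := by
    intro x h1 h2 h3
    exact hkx x h1 (by rw [← hw1 x h1]; exact h2) (by rw [← hw2 x h1]; exact h3)
  refine ⟨u + b • v, u' + b' • v, k, hkK, ?_, hkv, hkw, hkw', hkx'⟩
  exact
    { le := h.le
      v0 := h.v0
      qv := h.qv
      qz := h.qz
      vz := h.vz
      hyp := hyp
      vu := by rw [polar_add_right, polar_smul_right, h.vu, hvv]; simp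
      vu' := by rw [polar_add_right, polar_smul_right, h.vu', hvv]; simp
      zu := by rw [polar_add_right, polar_smul_right, h.zu, hzv]; simp
      zu' := by rw [polar_add_right, polar_smul_right, h.zu', hzv]; simp
      lift := by
        intro s hs hvs hzs hs'
        have hus : polar Q u s = 0 := by rw [← hw1 s hvs]; exact hs
        obtain ⟨g, hg, hgv, hgx⟩ := h.lift s hus hvs hzs (by rw [← hw2 s hvs]; exact hs')
        refine ⟨g, hg, hgv, fun x hx => ?_⟩
        obtain ⟨d, hd⟩ := hgx x hx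
        refine ⟨d + b * polar Q s x + Q s * polar Q u x * b, ?_⟩
        rw [hd, siegel_apply, siegel_apply, hw1 x hx]
        module
      tor := ⟨k, hkK, hkv, ⟨0, by rw [hkw, zero_smul, add_zero]⟩, ⟨0, by rw [hkw', zero_smul, add_zero]⟩,
        fun x h1 h2 h3 => ⟨0, by rw [hkx' x h1 h2 h3, zero_smul, add_zero]⟩⟩
      sie := h.sie
      val := fun c hc => by
        obtain ⟨s, h1, h2, h3, h4, h5⟩ := h.val c hc
        exact ⟨s, by rw [hw1 s h2, h1], h2, h3, by rw [hw2 s h2, h4], h5⟩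
      sieg := h.sieg
      θ0 := h.θ0
      θ1 := h.θ1
      pyth := h.pyth }

/-- **`K` contains the Siegel transformations of all norms** -/
theorem YS.has (hQ : Nondeg Q) (h : YS Q K v z u u' θ) {k₀ : V ≃ₗ[F] V} (hk₀ : k₀ ∈ K) (hkv : k₀ v = v) (hku : k₀ u = θ • u)
    (hkx : ∀ x, polar Q v x = 0 → polar Q u x = 0 → polar Q u' x = 0 → k₀ x = x)
    {s : V} (hus : polar Q u s = 0) (hvs : polar Q v s = 0) (hzs : polar Q z s = 0) (hus' : polar Q u' s = 0) :
    ∃ f : F, Has Q K u (s + f • v) := by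
  have huv : polar Q u v = 0 := by rw [polar_comm]; exact h.vu
  have huv' : polar Q u' v = 0 := by rw [polar_comm]; exact h.vu'
  have hvv := polar_self_of_sing h.qv
  have hsu : polar Q s u = 0 := by rw [polar_comm]; exact hus
  have hsv : polar Q s v = 0 := by rw [polar_comm]; exact hvs
  have hsu' : polar Q s u' = 0 := by rw [polar_comm]; exact hus'
  obtain ⟨i, j, l, hijl, hne⟩ := h.pyth
  obtain ⟨k, hkK, hk1, hk2⟩ := h.lift s hus hvs hzs hus'
  have hkO := h.le hkK
  -- powers of `k₀`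
  have pv : ∀ n : ℕ, (k₀ ^ n) v = v := pow_v hkv
  have pu : ∀ n : ℕ, (k₀ ^ n) u = θ ^ n • u := by
    intro n
    induction n with
    | zero => simp
    | succ n ih =>
      have h1 : (k₀ ^ (n + 1)) u = k₀ ((k₀ ^ n) u) := by rw [pow_succ']; rfl
      rw [h1, ih, map_smul, hku, smul_smul, pow_succ]
  have px : ∀ (n : ℕ) (x : V), polar Q v x = 0 → polar Q u x = 0 → polar Q u' x = 0 → (k₀ ^ n) x = x := by
    intro n x h1 h2 h3
    induction n with
    | zero => simp
    | succ n ih =>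
      have h4 : (k₀ ^ (n + 1)) x = k₀ ((k₀ ^ n) x) := by rw [pow_succ']; rfl
      rw [h4, ih, hkx x h1 h2 h3]
  have ps : ∀ n : ℕ, (k₀ ^ n) s = s := fun n => px n s hvs hus hus'
  -- the values of `k`
  obtain ⟨bu, hbu⟩ := hk2 u h.vu
  have hsiu : siegel Q u s h.hyp.left hus u = u := siegel_fix _ _ (polar_self_of_sing h.hyp.left) hsu
  rw [hsiu] at hbu
  have hke : ∀ e, polar Q v e = 0 → polar Q u e = 0 → ∃ b : F, k e = e - polar Q s e • u + b • v := by
    intro e h1 h3
    obtain ⟨b, hb⟩ := hk2 e h1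
    refine ⟨b, ?_⟩
    rw [hb, siegel_apply, h3]
    module
  -- the conjugates
  obtain ⟨c, hc⟩ : ∃ c : ℕ → (V ≃ₗ[F] V), ∀ n, c n = k₀ ^ n * k * (k₀ ^ n)⁻¹ := ⟨fun n => k₀ ^ n * k * (k₀ ^ n)⁻¹, fun n => rfl⟩
  have inv : ∀ (n : ℕ) {x y : V}, (k₀ ^ n) x = y → (k₀ ^ n)⁻¹ y = x := by
    rintro n x y rfl
    exact LinearEquiv.symm_apply_apply _ x
  have cK : ∀ n, c n ∈ K := fun n => by
    rw [hc]; exact K.mul_mem (K.mul_mem (K.pow_mem hk₀ n) hkK) (K.inv_mem (K.pow_mem hk₀ n))
  have cv : ∀ n, c n v = v := by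
    intro n
    rw [hc]
    show (k₀ ^ n) (k ((k₀ ^ n)⁻¹ v)) = v
    rw [inv n (pv n), hk1, pv n]
  have cu : ∀ n, c n (θ ^ n • u) = θ ^ n • u + bu • v := by
    intro n
    rw [hc]
    show (k₀ ^ n) (k ((k₀ ^ n)⁻¹ (θ ^ n • u))) = _
    rw [inv n (pu n), hbu, map_add, map_smul, pu n, pv n]
  have ce : ∀ (n : ℕ) (e : V) (b : F), polar Q v e = 0 → polar Q u e = 0 → polar Q u' e = 0 → k e = e - polar Q s e • u + b • v →
      c n e = e - (θ ^ n * polar Q s e) • u + b • v := by
    intro n e b h1 h2 h3 h4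
    rw [hc]
    show (k₀ ^ n) (k ((k₀ ^ n)⁻¹ e)) = _
    rw [inv n (px n e h1 h2 h3), h4, map_add, map_sub, map_smul, map_smul, pu n, pv n, px n e h1 h2 h3]
    module
  have hθn : ∀ n : ℕ, θ ^ n ≠ 0 := fun n => pow_ne_zero n h.θ0
  -- the element `m`
  obtain ⟨m, hm⟩ : ∃ m, m = c i * c j * (c l)⁻¹ := ⟨_, rfl⟩
  have mK : m ∈ K := by rw [hm]; exact K.mul_mem (K.mul_mem (cK i) (cK j)) (K.inv_mem (cK l))
  have cinv : ∀ {x y : V}, c l x = y → (c l)⁻¹ y = x := by
    rintro x y rfl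
    exact LinearEquiv.symm_apply_apply _ x
  have mv : m v = v := by
    rw [hm]
    show c i (c j ((c l)⁻¹ v)) = v
    rw [cinv (cv l), cv, cv]
  -- `m` acts trivially on `v^⊥ / v`
  have mlf : ∀ x, polar Q v x = 0 → ∃ d : F, m x - x = d • v := by
    intro x hx
    have hs0 : ∀ n : ℕ, polar Q u (θ ^ n • s) = 0 := fun n => by rw [polar_smul_right, hus, smul_zero]
    have hvs0 : ∀ n : ℕ, polar Q v (θ ^ n • s) = 0 := fun n => by rw [polar_smul_right, hvs, smul_zero]
    have hL : ∀ n, Lf Q v u (θ ^ n • s) h.hyp.left (hs0 n) (c n) := by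
      intro n
      rw [hc]
      exact Lf.conj (h.le (K.pow_mem hk₀ n)) (pv n) (pu n) (ps n) ⟨hk1, hk2⟩ (hs0 n)
    have hneg : polar Q u (-(θ ^ l • s)) = 0 := by rw [polar_neg_right, hs0, neg_zero]
    have hvneg : polar Q v (-(θ ^ l • s)) = 0 := by rw [polar_neg_right, hvs0, neg_zero]
    have h1 := (hL l).inv h.vu (hvs0 l) hneg
    have h2 : polar Q u (θ ^ i • s + θ ^ j • s) = 0 := by rw [polar_add_right, hs0, hs0, add_zero]
    have h3 := (hL i).mul h.vu (hvs0 j) (hL j) h2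
    have h4 : polar Q u (θ ^ i • s + θ ^ j • s + -(θ ^ l • s)) = 0 := by rw [polar_add_right, h2, hneg, add_zero]
    have h5 := h3.mul h.vu hvneg h1 h4
    obtain ⟨d, hd⟩ := h5.2 x hx
    refine ⟨d, ?_⟩
    rw [← hm] at hd
    have h6 : θ ^ i • s + θ ^ j • s + -(θ ^ l • s) = 0 := by rw [← hijl]; module
    have h7 : siegel Q u (θ ^ i • s + θ ^ j • s + -(θ ^ l • s)) h.hyp.left h4 x = x := by
      rw [siegel_apply, h6]
      simp
    rw [hd, h7]
    module
  obtain ⟨w, hw, em⟩ := Cfsg.Agent.ClassicalGeometry.OrthAut2.eq_siegel hQ h.qv h.v0 (h.le mK) mv mlf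
  obtain ⟨α, β, hαβ⟩ := h.sieg w ⟨h.qv, hw, by rw [← em]; exact mK⟩
  have mval : ∀ x, polar Q v x = 0 → m x = x - (α * polar Q z x) • v := by
    intro x hx
    rw [em, siegel_apply, hx, hαβ, polar_add_left, polar_smul_left, polar_smul_left, hx]
    simp only [smul_eq_mul]
    module
  -- `bu = 0`
  have hbu0 : bu = 0 := by
    have e2 : ∀ n, c n u = u + ((θ ^ n)⁻¹ * bu) • v := by
      intro n
      have h1 := cu n
      have h2 : c n u = (θ ^ n)⁻¹ • c n (θ ^ n • u) := by
        rw [map_smul, smul_smul, inv_mul_cancel₀ (hθn n), one_smul]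
      rw [h2, h1, smul_add, smul_smul, smul_smul, inv_mul_cancel₀ (hθn n), one_smul]
    have e1 : c l (u - ((θ ^ l)⁻¹ * bu) • v) = u := by
      rw [map_sub, map_smul, e2, cv]
      module
    have e3 : m u = u + (((θ ^ i)⁻¹ + (θ ^ j)⁻¹ - (θ ^ l)⁻¹) * bu) • v := by
      rw [hm]
      show c i (c j ((c l)⁻¹ u)) = _
      rw [cinv e1, map_sub, map_smul, cv, e2, map_sub, map_add, map_smul, map_smul, cv, e2]
      module
    have e4 := mval u h.vu
    rw [h.zu, mul_zero, zero_smul, sub_zero, e3] at e4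
    have e5 : (((θ ^ i)⁻¹ + (θ ^ j)⁻¹ - (θ ^ l)⁻¹) * bu) • v = 0 := by simpa using e4
    rcases smul_eq_zero.1 e5 with e6 | e6
    · rcases mul_eq_zero.1 e6 with e7 | e7
      · exfalso
        apply hne
        have hi := hθn i
        have hj := hθn j
        have hl := hθn l
        rw [← hijl] at e7 hl
        field_simp at e7
        linear_combination e7
      · exact e7
    · exact absurd e6 h.v0
  rw [hbu0, zero_smul, add_zero] at hbu
  have cu' : ∀ n, c n u = u := by
    intro n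
    have h1 := cu n
    rw [hbu0, zero_smul, add_zero, map_smul] at h1
    have h2 := congrArg (fun y => (θ ^ n)⁻¹ • y) h1
    simpa [smul_smul, inv_mul_cancel₀ (hθn n)] using h2
  -- the values of `m⁻¹ k`
  have minv : ∀ x, polar Q v x = 0 → m⁻¹ x = x + (α * polar Q z x) • v := by
    intro x hx
    have h1 : m (x + (α * polar Q z x) • v) = x := by
      rw [map_add, map_smul, mv, mval x hx]; module
    have h2 : m⁻¹ (m (x + (α * polar Q z x) • v)) = x + (α * polar Q z x) • v := LinearEquiv.symm_apply_apply m _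
    rw [← h2, h1]
  have hbe : ∀ e b, polar Q v e = 0 → polar Q u e = 0 → polar Q u' e = 0 → k e = e - polar Q s e • u + b • v →
      b = -(α * polar Q z e) := by
    intro e b h1 h2 h3 h4
    have e1 := ce i e b h1 h2 h3 h4
    have e2 := ce j e b h1 h2 h3 h4
    have e3 := ce l e b h1 h2 h3 h4
    have e4 : c l (e + (θ ^ l * polar Q s e) • u - b • v) = e := by
      rw [map_sub, map_add, map_smul, map_smul, e3, cu', cv]; module
    have e5 : m e = e + b • v := by
      rw [hm]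
      show c i (c j ((c l)⁻¹ e)) = _
      rw [cinv e4]
      simp only [map_sub, map_add, map_smul, e2, cu', cv, e1]
      rw [← hijl]
      module
    have e6 := mval e h1
    rw [e5] at e6
    have e7 : (b + α * polar Q z e) • v = 0 := by
      have : (b + α * polar Q z e) • v = (e + b • v) - (e - (α * polar Q z e) • v) := by module
      rw [this, e6, sub_self]
    rcases smul_eq_zero.1 e7 with e8 | e8
    · exact eq_neg_of_add_eq_zero_left e8
    · exact absurd e8 h.v0
  obtain ⟨f, hf⟩ := hk2 u' h.vu'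
  have hsiu' : siegel Q u s h.hyp.left hus u' = u' + s - Q s • u := by
    rw [siegel_apply, h.hyp.pair, hsu']
    module
  rw [hsiu'] at hf
  have hsf : polar Q u (s + f • v) = 0 := by rw [polar_add_right, polar_smul_right, hus, huv]; simp
  refine ⟨f, h.hyp.left, hsf, ?_⟩
  have hfin : m⁻¹ * k = siegel Q u (s + f • v) h.hyp.left hsf := by
    refine eq_of_perp hQ h.qv h.v0 ((O Q).mul_mem ((O Q).inv_mem (h.le mK)) hkO) (siegel_mem_O _ _) ?_
    intro x hx
    obtain ⟨e, he⟩ : ∃ e, e = LieClassical.OrthTrans.proj Q u u' x := ⟨_, rfl⟩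
    have he1 : polar Q u e = 0 := by rw [he]; exact polar_proj_left h.hyp x
    have he2 : polar Q u' e = 0 := by rw [he]; exact polar_proj_right h.hyp x
    have hxe : x = e + polar Q u' x • u + polar Q u x • u' := by rw [he, LieClassical.OrthTrans.proj]; module
    have he3 : polar Q v e = 0 := by
      rw [hxe, polar_add_right, polar_add_right, polar_smul_right, polar_smul_right, h.vu, h.vu'] at hx
      simpa using hx
    obtain ⟨b, hb⟩ := hke e he3 he1
    have hb' := hbe e b he3 he1 he2 hb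
    have hQ' : Q (s + f • v) = Q s := by
      rw [Q_add, QuadraticMap.map_smul, h.qv, polar_smul_right, hsv]; simp
    have k1 : (m⁻¹ * k) e = e - polar Q s e • u := by
      show m⁻¹ (k e) = _
      rw [hb, minv _ (by rw [polar_add_right, polar_sub_right, polar_smul_right, polar_smul_right, he3, h.vu, hvv]; simp),
        polar_add_right, polar_sub_right, polar_smul_right, polar_smul_right, h.zu, polar_comm Q z v, h.vz, hb']
      simp only [smul_eq_mul]
      module
    have k2 : (m⁻¹ * k) u = u := by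
      show m⁻¹ (k u) = _
      rw [hbu, minv u h.vu, h.zu]
      simp
    have k3 : (m⁻¹ * k) u' = u' + s - Q s • u + f • v := by
      show m⁻¹ (k u') = _
      rw [hf, minv _ (by
        rw [polar_add_right, polar_sub_right, polar_add_right, polar_smul_right, polar_smul_right, h.vu', hvs, h.vu, hvv]; simp),
        polar_add_right, polar_sub_right, polar_add_right, polar_smul_right, polar_smul_right, h.zu', hzs, h.zu,
        polar_comm Q z v, h.vz]
      simp
    have j1 : siegel Q u (s + f • v) h.hyp.left hsf e = e - polar Q s e • u := by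
      rw [siegel_apply, he1, polar_add_left, polar_smul_left, he3]
      simp
    have j2 : siegel Q u (s + f • v) h.hyp.left hsf u = u :=
      siegel_fix _ _ (polar_self_of_sing h.hyp.left) (by rw [polar_add_left, polar_smul_left, hsu, h.vu]; simp)
    have j3 : siegel Q u (s + f • v) h.hyp.left hsf u' = u' + s - Q s • u + f • v := by
      rw [siegel_apply, h.hyp.pair, hQ', polar_add_left, polar_smul_left, hsu', h.vu']
      simp only [smul_eq_mul]
      module
    rw [hxe]
    simp only [map_add, map_smul, k1, k2, k3, j1, j2, j3]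
  rw [← hfin]
  exact K.mul_mem (K.inv_mem mK) hkK

end Cfsg.Agent.H830.Hex
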