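import Cfsg.Agent.H830.Rg.HexF
import Cfsg.Agent.H830.Rg.HexG

/-!
# S3691, `Ω₇(q)`: a subgroup with a large `p`-part and without Siegel transformations of nonzero norm (helper830)

* `XD` : the data obtained from a subgroup of order `q ^ 6`
* `exists_XD` : its existence
* `both331` : such a subgroup contains conjugates of all elements of type `(3, 3, 1)`
-/

set_option autoImplicit false
set_option linter.unusedSectionVars false

namespace Cfsg.Agent.H830.Hex

open QuadraticMap Cfsg.Agent.LieClassical.OrthCore Cfsg.Agent.LieClassical.OrthTrans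
  Cfsg.Agent.H883.Sub Cfsg.Agent.H883.Root Cfsg.Agent.H916.QuadLemmas

variable {F V : Type*} [Field F] [AddCommGroup V] [Module F V] {Q : QuadraticForm F V}

/-- the data found in `H` -/
structure XD (Q : QuadraticForm F V) (H : Subgroup (V ≃ₗ[F] V)) (W₀ : Submodule F V) (v v' v₂ w c : V) : Prop where
  hv : Hyp Q v v'
  le : W₀ ≤ cp Q v v'
  rk : Module.finrank F W₀ = 2
  ts : ∀ x ∈ W₀, ∀ y ∈ W₀, polar Q x y = 0
  qs : ∀ x ∈ W₀, Q x = 0
  has : ∀ a ∈ W₀, Has Q H v a
  m₂ : v₂ ∈ W₀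
  n₂ : v₂ ≠ 0
  mw : w ∈ cp Q v v'
  mc : c ∈ cp Q v v'
  vw : polar Q v₂ w = 0
  vc : polar Q v₂ c = 0
  qw : Q w ≠ 0
  two : Two Q H v c v₂ w

theorem redHom_siegel {v v' : V} (hv : Hyp Q v v') {u w : V} (hu : Q u = 0) (hw : polar Q u w = 0) (huC : u ∈ cp Q v v')
    (hwC : w ∈ cp Q v v') (hst : siegel Q u w hu hw ∈ StV Q v) :
    redHom hv ⟨siegel Q u w hu hw, hst⟩ = siegel (res Q (cp Q v v')) ⟨u, huC⟩ ⟨w, hwC⟩ hu hw := by
  apply LinearEquiv.ext
  intro c
  apply Subtype.ext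
  rw [redHom_apply]
  have h1 : siegel Q u w hu hw (c : V) ∈ cp Q v v' := by
    rw [siegel_apply]
    exact (cp Q v v').sub_mem ((cp Q v v').sub_mem ((cp Q v v').add_mem c.2 ((cp Q v v').smul_mem _ hwC))
      ((cp Q v v').smul_mem _ huC)) ((cp Q v v').smul_mem _ huC)
  show proj Q v v' (siegel Q u w hu hw (c : V)) = _
  rw [proj_of_mem h1, siegel_apply hu hw,
    siegel_apply (Q := res Q (cp Q v v')) (u := ⟨u, huC⟩) (w := ⟨w, hwC⟩) hu hw c]
  rfl

theorem siegel_cp_mem_StV {v v' : V} {u w : V} (hu : Q u = 0) (hw : polar Q u w = 0) (huC : u ∈ cp Q v v')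
    (hwC : w ∈ cp Q v v') : siegel Q u w hu hw ∈ StV Q v :=
  ⟨siegel_mem_O _ _, siegel_fix hu hw (by rw [polar_comm]; exact (mem_cp.1 huC).1) (by rw [polar_comm]; exact (mem_cp.1 hwC).1)⟩

theorem span_ts {A : Set V} (hadd : ∀ x ∈ A, ∀ y ∈ A, x + y ∈ A) (hs : ∀ x ∈ A, Q x = 0) :
    ∀ x ∈ Submodule.span F A, ∀ y ∈ Submodule.span F A, polar Q x y = 0 := by
  intro x hx y hy
  induction hx using Submodule.span_induction with
  | mem x hx =>
    induction hy using Submodule.span_induction with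
    | mem y hy =>
      have h1 := hs _ (hadd x hx y hy)
      rw [Q_add, hs x hx, hs y hy, zero_add, zero_add] at h1
      exact h1
    | zero => exact polar_zero_right Q x
    | add y z _ _ h1 h2 => rw [polar_add_right, h1, h2, add_zero]
    | smul c y _ h1 => rw [polar_smul_right, h1, smul_zero]
  | zero => exact polar_zero_left Q y
  | add x z _ _ h1 h2 => rw [polar_add_left, h1, h2, add_zero]
  | smul c x _ h1 => rw [polar_smul_left, h1, smul_zero]

theorem sup_ts {W : Submodule F V} (hW : ∀ x ∈ W, ∀ y ∈ W, polar Q x y = 0) {t : V} (ht : Q t = 0)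
    (htW : ∀ x ∈ W, polar Q t x = 0) :
    ∀ x ∈ W ⊔ Submodule.span F {t}, ∀ y ∈ W ⊔ Submodule.span F {t}, polar Q x y = 0 := by
  intro x hx y hy
  obtain ⟨x1, hx1, x2, hx2, rfl⟩ := Submodule.mem_sup.1 hx
  obtain ⟨y1, hy1, y2, hy2, rfl⟩ := Submodule.mem_sup.1 hy
  obtain ⟨a, rfl⟩ := Submodule.mem_span_singleton.1 hx2
  obtain ⟨b, rfl⟩ := Submodule.mem_span_singleton.1 hy2
  simp only [polar_add_left, polar_add_right, polar_smul_left, polar_smul_right, hW x1 hx1 y1 hy1, htW y1 hy1,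
    polar_self_of_sing ht, polar_comm Q x1 t, htW x1 hx1]
  simp

theorem lt_sup {W : Submodule F V} {t : V} (ht : t ∉ W) : W < W ⊔ Submodule.span F {t} := by
  refine lt_of_le_of_ne le_sup_left fun h => ht ?_
  rw [h]
  exact Submodule.mem_sup_right (Submodule.mem_span_singleton_self t)

variable [Finite F] [FiniteDimensional F V]

/-- the first half: the group `Q₅(v) ∩ S` -/
theorem exists_first {p : ℕ} [hp : Fact p.Prime] [CharP F p] (h2 : (2 : F) ≠ 0) (hQ : Nondeg Q)
    (h7 : Module.finrank F V = 7) {S : Subgroup (V ≃ₗ[F] V)} (hS : S ≤ O Q) (hpS : IsPGroup p S)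
    (hc : Nat.card S = Nat.card F ^ 6)
    (hno : ∀ v w, v ≠ 0 → Has Q S v w → Q w = 0) :
    ∃ (v v' v₂ : V) (hv : Hyp Q v v') (W₀ : Submodule F V), S ≤ StV Q v ∧ W₀ ≤ cp Q v v' ∧ Module.finrank F W₀ = 2 ∧
      (∀ x ∈ W₀, ∀ y ∈ W₀, polar Q x y = 0) ∧ (∀ a, a ∈ W₀ ↔ a ∈ cp Q v v' ∧ Has Q S v a) ∧
      Nat.card (redG hv S) = Nat.card F ^ 4 ∧ v₂ ∈ W₀ ∧ v₂ ≠ 0 ∧ ∀ g ∈ S, ∃ c : F, g v₂ = v₂ + c • v := by
  have hF : 1 < Nat.card F := Finite.one_lt_card
  obtain ⟨v, hv0, hQv, hfix⟩ : ∃ v : V, v ≠ 0 ∧ Q v = 0 ∧ ∀ g ∈ S, g v = v := by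
    rcases exists_sing_fixed h2 hQ hS hpS with h | h
    · rw [h, Subgroup.card_bot] at hc
      have := Nat.one_lt_pow (n := 6) (by norm_num) hF
      omega
    · exact h
  obtain ⟨v', hv⟩ := exists_hyp hQ hQv hv0
  have hSt : S ≤ StV Q v := fun g hg => ⟨hS hg, hfix g hg⟩
  have hd := finrank_cp_eq hQ hv
  have h4 := card_pgroup_le h2 2 (nondegOn_cp hQ hv).res (by omega) (redG_le hv (P := S)) (redG_pgroup hv hpS)
  have h5 := card_red hQ hv hSt
  set A : Set V := {a | a ∈ cp Q v v' ∧ Has Q S v a} with hA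
  set W₀ := Submodule.span F A with hW₀
  have hW₀C : W₀ ≤ cp Q v v' := Submodule.span_le.2 fun a ha => ha.1
  have hts : ∀ x ∈ W₀, ∀ y ∈ W₀, polar Q x y = 0 :=
    span_ts (fun x hx y hy => ⟨(cp Q v v').add_mem hx.1 hy.1, hx.2.add hy.2⟩) (fun x hx => hno v x hv0 hx.2)
  have hvW : v ∉ W₀ := by
    intro h
    have := (mem_cp.1 (hW₀C h)).2
    rw [hv.pair'] at this
    exact one_ne_zero this
  have hlt : W₀ < W₀ ⊔ Submodule.span F {v} := lt_sup hvW
  have hts' := sup_ts hts hv.left (fun x hx => (mem_cp.1 (hW₀C hx)).1)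
  have hr1 : Module.finrank F W₀ ≤ 2 := by
    have k1 := finrank_le_three hQ h7 hts'
    have k2 := Submodule.finrank_lt_finrank_of_lt hlt
    omega
  have hfin : Finite V := Module.finite_of_finite F
  have hcW : Nat.card W₀ = Nat.card F ^ Module.finrank F W₀ := Module.natCard_eq_pow_finrank
  let φ : {w : cp Q v v' // Has Q S v w} → W₀ := fun w => ⟨w.1, Submodule.subset_span ⟨w.1.2, w.2⟩⟩
  have hφ : Function.Injective φ := fun a b hab =>
    Subtype.ext (Subtype.ext (congrArg (fun x : W₀ => (x : V)) hab))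
  have h6 := Nat.card_le_card_of_injective φ hφ
  have h7' : Nat.card W₀ ≤ Nat.card F ^ 2 := by
    rw [hcW]
    exact Nat.pow_le_pow_right (by omega) hr1
  -- the two orders
  have hpos : 0 < Nat.card F ^ 4 := pow_pos (by omega) _
  have hpos2 : 0 < Nat.card F ^ 2 := pow_pos (by omega) _
  rw [hc] at h5
  have h8 : Nat.card F ^ 6 = Nat.card F ^ 2 * Nat.card F ^ 4 := by rw [← pow_add]
  rw [h8] at h5
  have h9 : Nat.card (redG hv S) = Nat.card F ^ 4 := by
    refine le_antisymm h4 ?_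
    by_contra hlt
    push Not at hlt
    have : Nat.card {w : cp Q v v' // Has Q S v w} * Nat.card (redG hv S) < Nat.card F ^ 2 * Nat.card F ^ 4 :=
      lt_of_le_of_lt (Nat.mul_le_mul_right _ (h6.trans h7')) (Nat.mul_lt_mul_of_pos_left hlt hpos2)
    omega
  have h10 : Nat.card {w : cp Q v v' // Has Q S v w} = Nat.card F ^ 2 := by
    rw [h9] at h5
    exact (Nat.eq_of_mul_eq_mul_right hpos h5).symm
  have h11 : Nat.card W₀ = Nat.card F ^ 2 := le_antisymm h7' (by rw [← h10]; exact h6)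
  have h12 : Module.finrank F W₀ = 2 := by
    rw [hcW] at h11
    exact Nat.pow_right_injective hF h11
  have h13 : Function.Bijective φ := (Nat.bijective_iff_injective_and_card φ).2 ⟨hφ, by rw [h10, h11]⟩
  have h14 : ∀ a, a ∈ W₀ ↔ a ∈ cp Q v v' ∧ Has Q S v a := by
    intro a
    constructor
    · intro ha
      obtain ⟨b, hb⟩ := h13.2 ⟨a, ha⟩
      have hb' : ((b.1 : cp Q v v') : V) = a := congrArg (fun x : W₀ => (x : V)) hb
      rw [← hb']
      exact ⟨b.1.2, b.2⟩
    · intro ha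
      exact Submodule.subset_span ha
  -- the vector `v₂`
  have hst1 : ∀ g ∈ S, ∀ x ∈ Submodule.span F {v}, g x ∈ Submodule.span F {v} := by
    intro g hg x hx
    obtain ⟨c, rfl⟩ := Submodule.mem_span_singleton.1 hx
    rw [map_smul, hfix g hg]
    exact Submodule.smul_mem _ _ (Submodule.mem_span_singleton_self v)
  have hst2 : ∀ g ∈ S, ∀ x ∈ W₀ ⊔ Submodule.span F {v}, g x ∈ W₀ ⊔ Submodule.span F {v} := by
    intro g hg x hx
    obtain ⟨x1, hx1, x2, hx2, rfl⟩ := Submodule.mem_sup.1 hx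
    rw [map_add]
    refine Submodule.add_mem _ ?_ (Submodule.mem_sup_right (hst1 g hg x2 hx2))
    have k1 := (h14 x1).1 hx1
    have k2 := k1.2.map (hS hg) hg
    rw [hfix g hg] at k2
    have k3 := map_cp (hSt hg) k1.1
    have k4 : proj Q v v' (g x1) = g x1 + (-polar Q v' (g x1)) • v := by
      nth_rewrite 2 [k3]
      module
    rw [k3]
    refine Submodule.add_mem _ (Submodule.mem_sup_left ((h14 _).2 ⟨proj_mem_cp hv _, ?_⟩))
      (Submodule.mem_sup_right (Submodule.smul_mem _ _ (Submodule.mem_span_singleton_self v)))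
    rw [k4]
    exact k2.add_smul_self _
  obtain ⟨x, hx, hx1, hx2⟩ := exists_fixed_mod hpS hst1 hst2 (by
    intro h
    have k1 := Submodule.finrank_mono h
    have k2 := Submodule.finrank_lt_finrank_of_lt hlt
    have k3 : Module.finrank F (Submodule.span F {v}) = 1 := finrank_span_singleton hv0
    omega)
  obtain ⟨v₂, hv₂, t, ht, rfl⟩ := Submodule.mem_sup.1 hx
  obtain ⟨c, rfl⟩ := Submodule.mem_span_singleton.1 ht
  refine ⟨v, v', v₂, hv, W₀, hSt, hW₀C, h12, hts, h14, h9, hv₂, ?_, fun g hg => ?_⟩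
  · rintro rfl
    rw [zero_add] at hx1
    exact hx1 (Submodule.smul_mem _ _ (Submodule.mem_span_singleton_self v))
  · obtain ⟨d, hd⟩ := Submodule.mem_span_singleton.1 (hx2 g hg)
    rw [map_add, map_smul, hfix g hg] at hd
    refine ⟨d, ?_⟩
    rw [hd]
    module

/-- the second half: the element with two commuting parts -/
theorem exists_XD {H : Subgroup (V ≃ₗ[F] V)} (h2 : (2 : F) ≠ 0) (hQ : Nondeg Q)
    (h7 : Module.finrank F V = 7) (hH : H ≤ O Q) (hc : Nat.card F ^ 6 ∣ Nat.card H)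
    (hno : ∀ v w, v ≠ 0 → Has Q H v w → Q w = 0) : ∃ W₀ v v' v₂ w c, XD Q H W₀ v v' v₂ w c := by
  classical
  have hFt := Fintype.ofFinite F
  have hF : 1 < Nat.card F := Finite.one_lt_card
  obtain ⟨p, hpc⟩ := CharP.exists F
  obtain ⟨f, hp, hcard⟩ := FiniteField.card F p
  have := Fact.mk hp
  have hcard' : Nat.card F = p ^ (f : ℕ) := by rw [Nat.card_eq_fintype_card, hcard]
  have hfinV : Finite V := Module.finite_of_finite F
  have hfinG : Finite (V ≃ₗ[F] V) := Finite.of_injective (fun g : V ≃ₗ[F] V => (g : V → V)) DFunLike.coe_injective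
  obtain ⟨K, hK⟩ := Sylow.exists_subgroup_card_pow_prime (G := H) p (n := f * 6) (by rw [pow_mul, ← hcard']; exact hc)
  obtain ⟨S, hSdef⟩ : ∃ S, S = K.map H.subtype := ⟨_, rfl⟩
  have hSH : S ≤ H := by
    rw [hSdef]
    rintro _ ⟨x, -, rfl⟩
    exact x.2
  have hSc : Nat.card S = Nat.card F ^ 6 := by
    rw [hSdef, Subgroup.card_map_of_injective (Subgroup.subtype_injective H), hK, pow_mul, ← hcard']
  have hpS : IsPGroup p S := IsPGroup.of_card (n := f * 6) (by rw [hSc, hcard', pow_mul])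
  have hS : S ≤ O Q := hSH.trans hH
  obtain ⟨v, v', v₂, hv, W₀, hSt, hW₀C, hrk, hts, hmem, hred, hv₂, hv₂0, hfix₂⟩ :=
    exists_first h2 hQ h7 hS hpS hSc (fun v w hv h => hno v w hv (h.mono hSH))
  have hqs : ∀ x ∈ W₀, Q x = 0 := fun x hx => hno v x hv.left_ne (((hmem x).1 hx).2.mono hSH)
  have hd := finrank_cp_eq hQ hv
  have hNC := (nondegOn_cp hQ hv).res
  -- the second reduction
  obtain ⟨u, hu⟩ : ∃ u : cp Q v v', u = ⟨v₂, hW₀C hv₂⟩ := ⟨_, rfl⟩
  have huv : (u : V) = v₂ := by rw [hu]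
  have hu0 : u ≠ 0 := by
    intro h
    apply hv₂0
    rw [← huv, h]; rfl
  have hQu : res Q (cp Q v v') u = 0 := by
    show Q (u : V) = 0
    rw [huv]; exact hqs _ hv₂
  obtain ⟨u', hu'⟩ := exists_hyp hNC hQu hu0
  have hd2 := finrank_cp_eq hNC hu'
  have hRS : redG hv S ≤ StV (res Q (cp Q v v')) u := by
    intro k hk
    refine ⟨redG_le hv hk, ?_⟩
    obtain ⟨g, hg, hgk⟩ := (mem_redG hv hSt).1 hk
    apply Subtype.ext
    obtain ⟨c, hc⟩ := hfix₂ g hg
    rw [hgk, huv, hc, proj_add_smul hv, proj_of_mem (hW₀C hv₂)]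
  have e1 := card_red hNC hu' hRS
  have e2 := card_pgroup_le h2 1 (nondegOn_cp hNC hu').res (by omega) (redG_le hu' (P := redG hv S))
    (redG_pgroup hu' (redG_pgroup hv hpS))
  have hfin2 : Finite (cp (res Q (cp Q v v')) u u') := Module.finite_of_finite F
  have e3 : Nat.card {w : cp (res Q (cp Q v v')) u u' // Has (res Q (cp Q v v')) (redG hv S) u w} ≤
      Nat.card (cp (res Q (cp Q v v')) u u') :=
    Nat.card_le_card_of_injective _ Subtype.val_injective
  have e4 : Nat.card (cp (res Q (cp Q v v')) u u') = Nat.card F ^ 3 := by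
    have : Nat.card (cp (res Q (cp Q v v')) u u') = Nat.card F ^ Module.finrank F (cp (res Q (cp Q v v')) u u') :=
      Module.natCard_eq_pow_finrank
    rw [this]
    congr 1
    omega
  have e5 : Nat.card {w : cp (res Q (cp Q v v')) u u' // Has (res Q (cp Q v v')) (redG hv S) u w} = Nat.card F ^ 3 := by
    refine le_antisymm (by rw [← e4]; exact e3) ?_
    by_contra hlt
    push Not at hlt
    rw [hred] at e1
    have k1 : Nat.card {w : cp (res Q (cp Q v v')) u u' // Has (res Q (cp Q v v')) (redG hv S) u w} *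
        Nat.card (redG hu' (redG hv S)) < Nat.card F ^ 3 * Nat.card F ^ (1 * 1) :=
      lt_of_le_of_lt (Nat.mul_le_mul_left _ e2) (Nat.mul_lt_mul_of_pos_right hlt (pow_pos (by omega) _))
    rw [← pow_add] at k1
    exact absurd e1 (ne_of_gt k1)
  have hall : ∀ w : cp (res Q (cp Q v v')) u u', Has (res Q (cp Q v v')) (redG hv S) u w := by
    intro w
    have hb : Function.Bijective (Subtype.val : {w : cp (res Q (cp Q v v')) u u' //
        Has (res Q (cp Q v v')) (redG hv S) u w} → _) :=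
      (Nat.bijective_iff_injective_and_card _).2 ⟨Subtype.val_injective, by rw [e5, e4]⟩
    obtain ⟨x, rfl⟩ := hb.2 w
    exact x.2
  -- lifts
  have hlift : ∀ w : cp (res Q (cp Q v v')) u u', ∃ g : S, redHom hv ⟨g.1, hSt g.2⟩ =
      siegel (res Q (cp Q v v')) u w (hall w).1 (hall w).2.1 := by
    intro w
    obtain ⟨g, hg, hgk⟩ := (mem_redG hv hSt).1 (hall w).2.2
    refine ⟨⟨g, hg⟩, ?_⟩
    apply LinearEquiv.ext
    intro c
    apply Subtype.ext
    rw [redHom_apply, hgk]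
  choose g hg using hlift
  choose μ hμ using fun s : S => hfix₂ s.1 s.2
  have hμadd : ∀ s t : S, μ (s * t) = μ s + μ t := by
    intro s t
    have k1 := hμ (s * t)
    have k2 : ((s * t : S) : V ≃ₗ[F] V) v₂ = s.1 (t.1 v₂) := rfl
    rw [k2, hμ t, map_add, map_smul, hμ s, (hSt s.2).2] at k1
    have k3 : (μ (s * t) - (μ s + μ t)) • v = 0 := by
      have : (μ (s * t) - (μ s + μ t)) • v = (v₂ + μ (s * t) • v) - (v₂ + μ s • v + μ t • v) := by module
      rw [this, k1, sub_self]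
    rcases smul_eq_zero.1 k3 with k4 | k4
    · exact sub_eq_zero.1 k4
    · exact absurd k4 hv.left_ne
  have hμker : ∀ s : S, redHom hv ⟨s.1, hSt s.2⟩ = 1 → μ s = 0 := by
    intro s hs
    obtain ⟨w, hw, hwC, e⟩ := (redHom_eq_one_iff hQ hv _).1 hs
    have e' : s.1 = siegel Q v w hv.left hw := e
    have hwW : w ∈ W₀ := (hmem w).2 ⟨hwC, hv.left, hw, by rw [← e']; exact s.2⟩
    have k1 := hμ s
    rw [e', siegel_fix hv.left hw (mem_cp.1 (hW₀C hv₂)).1 (hts w hwW v₂ hv₂)] at k1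
    have k2 : μ s • v = 0 := by
      have : μ s • v = (v₂ + μ s • v) - v₂ := by module
      rw [this, ← k1, sub_self]
    rcases smul_eq_zero.1 k2 with k3 | k3
    · exact k3
    · exact absurd k3 hv.left_ne
  have hμ1 : μ 1 = 0 := by
    have := hμadd 1 1
    rw [mul_one] at this
    exact left_eq_add.1 this
  have hμinv : ∀ s : S, μ s⁻¹ = - μ s := by
    intro s
    have := hμadd s⁻¹ s
    rw [inv_mul_cancel, hμ1] at this
    exact eq_neg_of_add_eq_zero_left this.symm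
  have hμeq : ∀ s t : S, redHom hv ⟨s.1, hSt s.2⟩ = redHom hv ⟨t.1, hSt t.2⟩ → μ s = μ t := by
    intro s t hst
    have k1 := hμker (s * t⁻¹) (by
      have : (⟨(s * t⁻¹ : S), hSt (s * t⁻¹).2⟩ : StV Q v) = ⟨s.1, hSt s.2⟩ * (⟨t.1, hSt t.2⟩ : StV Q v)⁻¹ := rfl
      rw [this, map_mul, map_inv, hst, mul_inv_cancel])
    rw [hμadd, hμinv] at k1
    exact add_neg_eq_zero.1 k1
  let M : cp (res Q (cp Q v v')) u u' →+ F := AddMonoidHom.mk' (fun w => μ (g w)) (by
    intro a b
    rw [← hμadd]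
    apply hμeq
    have k1 : (⟨(g a * g b : S), hSt (g a * g b).2⟩ : StV Q v) = ⟨(g a).1, hSt (g a).2⟩ * ⟨(g b).1, hSt (g b).2⟩ := rfl
    rw [k1, map_mul, hg, hg, hg, siegel_mul]
    rfl)
  have hMk : ∀ w, M w = μ (g w) := fun w => rfl
  -- a nonsingular vector in the kernel
  obtain ⟨w, hMw, hQw⟩ : ∃ w, M w = 0 ∧ Q ((w : cp Q v v') : V) ≠ 0 := by
    by_contra hcon
    push Not at hcon
    set B : Set V := {x | ∃ w : cp (res Q (cp Q v v')) u u', M w = 0 ∧ x = ((w : cp Q v v') : V)} with hB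
    have b1 : ∀ x ∈ B, x ∈ cp Q v v' ⊓ LinearMap.ker (polarBilin Q (u' : V)) ⊓ LinearMap.ker (polarBilin Q v₂) := by
      rintro _ ⟨w, -, rfl⟩
      have k1 := mem_cp.1 w.2
      exact ⟨⟨w.1.2, k1.2⟩, by show polar Q v₂ _ = 0; rw [← huv]; exact k1.1⟩
    have b2 := Submodule.span_le.2 b1
    have b3 : ∀ x ∈ Submodule.span F B, ∀ y ∈ Submodule.span F B, polar Q x y = 0 := by
      apply span_ts
      · rintro _ ⟨w, hw, rfl⟩ _ ⟨w', hw', rfl⟩
        exact ⟨w + w', by rw [map_add, hw, hw', add_zero], rfl⟩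
      · rintro _ ⟨w, hw, rfl⟩
        exact hcon w hw
    have b4 : v₂ ∉ Submodule.span F B := by
      intro h
      have h5 : polar Q (u' : V) v₂ = 0 := (b2 h).1.2
      have h6 : polar Q (u' : V) (u : V) = 1 := hu'.pair'
      rw [huv, h5] at h6
      exact zero_ne_one h6
    have b5 := sup_ts b3 (hqs v₂ hv₂) (fun x hx => (b2 hx).2)
    have b6 : Submodule.span F B ⊔ Submodule.span F {v₂} ≤ cp Q v v' :=
      sup_le (fun x hx => (b2 hx).1.1) ((Submodule.span_singleton_le_iff_mem _ _).2 (hW₀C hv₂))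
    have b7 : v ∉ Submodule.span F B ⊔ Submodule.span F {v₂} := by
      intro h
      have := (mem_cp.1 (b6 h)).2
      rw [hv.pair'] at this
      exact one_ne_zero this
    have b8 := finrank_le_three hQ h7 (sup_ts b5 hv.left (fun x hx => (mem_cp.1 (b6 hx)).1))
    have b9 := Submodule.finrank_lt_finrank_of_lt (lt_sup b4)
    have b10 := Submodule.finrank_lt_finrank_of_lt (lt_sup b7)
    have b11 : Nat.card (Submodule.span F B) = Nat.card F ^ Module.finrank F (Submodule.span F B) :=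
      Module.natCard_eq_pow_finrank
    have b12 : Nat.card (Submodule.span F B) ≤ Nat.card F ^ 1 := by
      rw [b11]
      exact Nat.pow_le_pow_right (by omega) (by omega)
    have b13 : Nat.card M.ker ≤ Nat.card (Submodule.span F B) := by
      refine Nat.card_le_card_of_injective (fun w : M.ker => (⟨((w.1 : cp Q v v') : V),
        Submodule.subset_span ⟨w.1, w.2, rfl⟩⟩ : Submodule.span F B)) ?_
      intro a b hab
      exact Subtype.ext (Subtype.ext (Subtype.ext (congrArg (fun x : Submodule.span F B => (x : V)) hab)))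
    have b14 : Nat.card M.ker * M.ker.index = Nat.card (cp (res Q (cp Q v v')) u u') := AddSubgroup.card_mul_index _
    rw [AddSubgroup.index_ker, e4] at b14
    have b15 : Nat.card M.range ≤ Nat.card F := Nat.card_le_card_of_injective _ Subtype.val_injective
    have b16 : Nat.card F ^ 3 ≤ Nat.card F ^ 1 * Nat.card F := by
      rw [← b14]
      exact Nat.mul_le_mul (b13.trans b12) b15
    have b17 : Nat.card F ^ 1 * Nat.card F < Nat.card F ^ 3 := by
      have : Nat.card F ^ 1 * Nat.card F = Nat.card F ^ 2 := by ring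
      rw [this]
      exact Nat.pow_lt_pow_right hF (by norm_num)
    omega
  -- the decomposition of `g w`
  have hwu : polar Q v₂ ((w : cp Q v v') : V) = 0 := by
    rw [← huv]; exact (mem_cp.1 w.2).1
  have hsE := siegel_cp_mem_StV (v := v) (v' := v') (hqs v₂ hv₂) hwu (hW₀C hv₂) w.1.2
  obtain ⟨c, hc, hcC, ec⟩ := (redHom_eq_one_iff hQ hv (⟨(g w).1, hSt (g w).2⟩ *
    (⟨siegel Q v₂ ((w : cp Q v v') : V) (hqs v₂ hv₂) hwu, hsE⟩ : StV Q v)⁻¹)).1 (by
      rw [map_mul, map_inv, hg, redHom_siegel hv (hqs v₂ hv₂) hwu (hW₀C hv₂) w.1.2 hsE]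
      rw [mul_inv_eq_one]
      exact siegel_eq (Q := res Q (cp Q v v')) _ _ _ _ hu rfl)
  have ec' : (g w).1 = siegel Q v c hv.left hc * siegel Q v₂ ((w : cp Q v v') : V) (hqs v₂ hv₂) hwu := by
    rw [← ec]
    show (g w).1 = (g w).1 * (siegel Q v₂ ((w : cp Q v v') : V) (hqs v₂ hv₂) hwu)⁻¹ * _
    group
  have hcv : polar Q v₂ c = 0 := by
    have k1 := hμ (g w)
    rw [← hMk, hMw, zero_smul, add_zero, ec'] at k1
    have k2 : siegel Q v c hv.left hc v₂ = v₂ := by
      have k3 : siegel Q v₂ ((w : cp Q v v') : V) (hqs v₂ hv₂) hwu v₂ = v₂ :=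
        siegel_fix _ _ (polar_self_of_sing (hqs v₂ hv₂)) (by rw [polar_comm]; exact hwu)
      have k4 : (siegel Q v c hv.left hc * siegel Q v₂ ((w : cp Q v v') : V) (hqs v₂ hv₂) hwu) v₂ =
        siegel Q v c hv.left hc (siegel Q v₂ ((w : cp Q v v') : V) (hqs v₂ hv₂) hwu v₂) := rfl
      rw [k4, k3] at k1
      exact k1
    rw [siegel_apply, (mem_cp.1 (hW₀C hv₂)).1] at k2
    have k5 : (polar Q c v₂) • v = 0 := by
      have : (polar Q c v₂) • v = v₂ - (v₂ + (0 : F) • c - polar Q c v₂ • v - (Q c * 0) • v) := by module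
      rw [this, k2, sub_self]
    rw [polar_comm]
    rcases smul_eq_zero.1 k5 with k6 | k6
    · exact k6
    · exact absurd k6 hv.left_ne
  exact ⟨W₀, v, v', v₂, w, c, hv, hW₀C, hrk, hts, hqs, fun a ha => ((hmem a).1 ha).2.mono hSH, hv₂, hv₂0, w.1.2, hcC, hwu,
    hcv, hQw, hv.left, hc, hqs v₂ hv₂, hwu, by rw [← ec']; exact hSH (g w).2⟩

end Cfsg.Agent.H830.Hex
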