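import Cfsg.Agent.H830.Rg.HexH

/-!
# S3691, `Ω₇(q)`: all elements of type `(3, 3, 1)` occur (helper830)

* `both331` : if `q ^ 6 ∣ |H|` and `H ≤ O Q` contains no Siegel transformation with nonsingular second vector, then every
  element of type `(3, 3, 1)` is conjugate in `E Q` to an element of `H`
* `no_hex` : consequence for factorizations
-/

set_option autoImplicit false
set_option linter.unusedSectionVars false

namespace Cfsg.Agent.H830.Hex

open QuadraticMap Cfsg.Agent.LieClassical.OrthCore Cfsg.Agent.LieClassical.OrthTrans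
  Cfsg.Agent.H883.Sub Cfsg.Agent.H883.Root Cfsg.Agent.H916.QuadLemmas

variable {F V : Type*} [Field F] [AddCommGroup V] [Module F V] {Q : QuadraticForm F V}

/-- two commuting Siegel transformations with proportional second vectors -/
theorem comb {v v₂ w : V} {κ : F} (hv : Q v = 0) (hv₂ : Q v₂ = 0) (hvv : polar Q v v₂ = 0) (hvw : polar Q v w = 0)
    (hv₂w : polar Q v₂ w = 0) (k1 : polar Q v (κ • w) = 0) (k2 : Q (κ • v + v₂) = 0)
    (k3 : polar Q (κ • v + v₂) (w + (-(Q w * κ)) • v) = 0) :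
    siegel Q v (κ • w) hv k1 * siegel Q v₂ w hv₂ hv₂w = siegel Q (κ • v + v₂) (w + (-(Q w * κ)) • v) k2 k3 := by
  have hwv : polar Q w v = 0 := by rw [polar_comm]; exact hvw
  have hwv₂ : polar Q w v₂ = 0 := by rw [polar_comm]; exact hv₂w
  have hww : polar Q w w = 2 * Q w := polar_self' w
  have hq : Q (w + (-(Q w * κ)) • v) = Q w := by
    rw [Q_add, QuadraticMap.map_smul, hv, polar_smul_right, hwv]; simp
  ext x
  show siegel Q v (κ • w) hv k1 (siegel Q v₂ w hv₂ hv₂w x) = _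
  simp only [siegel_apply, hq, QuadraticMap.map_smul, polar_add_left, polar_add_right, polar_sub_right, polar_smul_left,
    polar_smul_right, hvv, hvw, hww, hwv₂, smul_eq_mul]
  match_scalars <;> ring

theorem exists_scal [Finite F] (h2 : (2 : F) ≠ 0) (hq : 5 < Nat.card F) {δ K : F} (hδ : δ ≠ 0) (hK : K ≠ 0) :
    ∃ τ σ : F, σ ≠ 0 ∧ τ * τ - K = δ * (σ * σ) := by
  classical
  have := Fintype.ofFinite F
  obtain ⟨s, t, hst⟩ := bin_rep h2 (a := K⁻¹) (P := 0) (d := -(δ * K⁻¹)) (by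
    have h4 : (4 : F) = 2 * 2 := by norm_num
    have : (0 : F) * 0 - 4 * K⁻¹ * (-(δ * K⁻¹)) = 2 * 2 * δ * (K⁻¹ * K⁻¹) := by rw [← h4]; ring
    rw [this]
    exact mul_ne_zero (mul_ne_zero (mul_ne_zero h2 h2) hδ) (mul_ne_zero (inv_ne_zero hK) (inv_ne_zero hK)))
  have hst' : s * s - K = δ * (t * t) := by
    have hKK : K * K⁻¹ = 1 := mul_inv_cancel₀ hK
    linear_combination K * hst + (-(s * s) + δ * (t * t)) * hKK
  by_cases ht : t = 0
  · subst ht
    have hs : s * s = K := by linear_combination hst'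
    have hs0 : s ≠ 0 := by rintro rfl; exact hK (by rw [← hs]; ring)
    obtain ⟨u, hu0, hu⟩ : ∃ u : F, u ≠ 0 ∧ u * u ≠ δ := by
      by_cases hδ1 : δ = 1
      · obtain ⟨c, hc⟩ : ∃ c : F, c ∉ ({0, 1, -1} : Finset F) := by
          by_contra hcon
          push Not at hcon
          have h3 : (Finset.univ : Finset F) ⊆ {0, 1, -1} := fun x _ => hcon x
          have h4 := Finset.card_le_card h3
          have h5 : ({0, 1, -1} : Finset F).card ≤ 3 := Finset.card_le_three
          rw [Finset.card_univ, ← Nat.card_eq_fintype_card] at h4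
          omega
        simp only [Finset.mem_insert, Finset.mem_singleton, not_or] at hc
        refine ⟨c, hc.1, fun h => ?_⟩
        rw [hδ1] at h
        have h4 : (c - 1) * (c + 1) = 0 := by linear_combination h
        rcases mul_eq_zero.1 h4 with h5 | h5
        · exact hc.2.1 (sub_eq_zero.1 h5)
        · exact hc.2.2 (eq_neg_of_add_eq_zero_left h5)
      · exact ⟨1, one_ne_zero, fun h => hδ1 (by rw [← h]; ring)⟩
    have hd : δ - u * u ≠ 0 := sub_ne_zero.2 (Ne.symm hu)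
    obtain ⟨D, hD⟩ : ∃ D, (δ - u * u) * D = 1 := ⟨_, mul_inv_cancel₀ hd⟩
    have hD0 : D ≠ 0 := right_ne_zero_of_mul_eq_one hD
    refine ⟨s + u * (2 * s * u * D), 2 * s * u * D, mul_ne_zero (mul_ne_zero (mul_ne_zero h2 hs0) hu0) hD0, ?_⟩
    linear_combination hs - (4 * s * s * u * u * D) * hD
  · exact ⟨s, t, ht, hst'⟩

theorem XD.two_add {H : Subgroup (V ≃ₗ[F] V)} {W₀ : Submodule F V} {v v' v₂ w c a : V} (h : XD Q H W₀ v v' v₂ w c)
    (ha : a ∈ W₀) : Two Q H v (c + a) v₂ w := by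
  obtain ⟨h1, h2, h3, h4, h5⟩ := h.two
  have h6 : polar Q v (c + a) = 0 := by rw [polar_add_right, h2, (h.has a ha).perp, add_zero]
  have h7 : polar Q v (a + c) = 0 := by rw [add_comm]; exact h6
  refine ⟨h1, h6, h3, h4, ?_⟩
  have h8 := H.mul_mem (h.has a ha).2.2 h5
  rw [← mul_assoc, siegel_mul h1 (h.has a ha).perp h2 h7] at h8
  rwa [siegel_eq h1 h6 h1 h7 rfl (add_comm c a)]

/-- the two second vectors are independent modulo `W₀` -/
theorem XD.good {H : Subgroup (V ≃ₗ[F] V)} {W₀ : Submodule F V} {v v' v₂ w c : V} (h : XD Q H W₀ v v' v₂ w c)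
    (hno : ∀ v w, v ≠ 0 → Has Q H v w → Q w = 0) (κ : F) : c + (-κ) • w ∉ W₀ := by
  intro hc
  have h1 := h.two_add (W₀.neg_mem hc)
  have e1 : c + -(c + (-κ) • w) = κ • w := by module
  rw [e1] at h1
  obtain ⟨h2, h3, h4, h5, h6⟩ := h1
  have hvw := (mem_cp.1 h.mw).1
  have hvv := (mem_cp.1 (h.le h.m₂)).1
  have hvv' : polar Q v₂ v = 0 := by rw [polar_comm]; exact hvv
  have k2 : Q (κ • v + v₂) = 0 := by
    rw [Q_add, QuadraticMap.map_smul, h2, h4, polar_smul_left, hvv]; simp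
  have k3 : polar Q (κ • v + v₂) (w + (-(Q w * κ)) • v) = 0 := by
    simp only [polar_add_left, polar_add_right, polar_smul_left, polar_smul_right, hvw, h.vw, hvv', h.hv.polar_left]
    simp
  rw [comb h2 h4 hvv hvw h5 h3 k2 k3] at h6
  have h7 := hno (κ • v + v₂) _ (by
    intro h0
    have h8 := congrArg (polar Q v') h0
    rw [polar_add_right, polar_smul_right, h.hv.pair', (mem_cp.1 (h.le h.m₂)).2, polar_zero_right] at h8
    have h9 : κ = 0 := by simpa using h8
    rw [h9, zero_smul, zero_add] at h0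
    exact h.n₂ h0) ⟨k2, k3, h6⟩
  rw [Q_add, QuadraticMap.map_smul, h2, polar_smul_right, polar_comm Q w v, hvw] at h7
  apply h.qw
  simpa using h7

variable [Finite F] [FiniteDimensional F V]

/-- **every discriminant class occurs** -/
theorem XD.exists_dsc {H : Subgroup (V ≃ₗ[F] V)} (h2 : (2 : F) ≠ 0) (hq : 5 < Nat.card F) (hQ : Nondeg Q)
    (h7 : Module.finrank F V = 7) {W₀ : Submodule F V} {v v' v₂ w c : V} (h : XD Q H W₀ v v' v₂ w c)
    (hno : ∀ v w, v ≠ 0 → Has Q H v w → Q w = 0) {δ : F} (hδ : δ ≠ 0) :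
    ∃ a ∈ W₀, ∃ σ : F, σ ≠ 0 ∧ Dsc Q (c + a) w = δ * (σ * σ) := by
  have hvW : v ∉ W₀ := by
    intro h1
    have := (mem_cp.1 (h.le h1)).2
    rw [h.hv.pair'] at this
    exact one_ne_zero this
  have h4 : (4 : F) ≠ 0 := by
    have : (4 : F) = 2 * 2 := by norm_num
    rw [this]
    exact mul_ne_zero h2 h2
  by_cases hB : ∃ a₀ ∈ W₀, polar Q a₀ w ≠ 0
  · obtain ⟨a₀, ha₀, hπ⟩ := hB
    obtain ⟨π, hπd⟩ : ∃ π, π = polar Q a₀ w := ⟨_, rfl⟩
    rw [← hπd] at hπ
    obtain ⟨κ, hκ⟩ : ∃ κ, κ * π = polar Q c a₀ := ⟨polar Q c a₀ * π⁻¹, by rw [mul_assoc, inv_mul_cancel₀ hπ, mul_one]⟩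
    -- `W₀ = ⟨v₂, a₀⟩`
    have hspan : Submodule.span F {v₂} ⊔ Submodule.span F {a₀} = W₀ := by
      have hle : Submodule.span F {v₂} ⊔ Submodule.span F {a₀} ≤ W₀ :=
        sup_le ((Submodule.span_singleton_le_iff_mem _ _).2 h.m₂) ((Submodule.span_singleton_le_iff_mem _ _).2 ha₀)
      refine Submodule.eq_of_le_of_finrank_le hle ?_
      have k1 : a₀ ∉ Submodule.span F {v₂} := by
        intro k1
        obtain ⟨l, hl⟩ := Submodule.mem_span_singleton.1 k1
        apply hπ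
        rw [hπd, ← hl, polar_smul_left, h.vw, smul_zero]
      have k2 := Submodule.finrank_lt_finrank_of_lt (lt_sup k1)
      have k3 : Module.finrank F (Submodule.span F {v₂}) = 1 := finrank_span_singleton h.n₂
      have k4 := h.rk
      omega
    obtain ⟨c', hc'⟩ : ∃ c', c' = c + (-κ) • w := ⟨_, rfl⟩
    have hcC : c' ∈ cp Q v v' := by rw [hc']; exact (cp Q v v').add_mem h.mc ((cp Q v v').smul_mem _ h.mw)
    have horth : ∀ x ∈ W₀, polar Q c' x = 0 := by
      intro x hx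
      rw [← hspan] at hx
      obtain ⟨x1, hx1, x2, hx2, rfl⟩ := Submodule.mem_sup.1 hx
      obtain ⟨l, rfl⟩ := Submodule.mem_span_singleton.1 hx1
      obtain ⟨m, rfl⟩ := Submodule.mem_span_singleton.1 hx2
      rw [hc']
      simp only [polar_add_left, polar_add_right, polar_smul_left, polar_smul_right, polar_comm Q c v₂, h.vc,
        polar_comm Q w v₂, h.vw, ← hκ, polar_comm Q w a₀, ← hπd, smul_eq_mul]
      ring
    have hQc' : Q c' ≠ 0 := by
      intro h0
      apply h.good hno κ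
      rw [← hc']
      by_contra hcW
      have k1 := sup_ts h.ts h0 horth
      have k2 : W₀ ⊔ Submodule.span F {c'} ≤ cp Q v v' := sup_le h.le ((Submodule.span_singleton_le_iff_mem _ _).2 hcC)
      have k3 : v ∉ W₀ ⊔ Submodule.span F {c'} := by
        intro h1
        have := (mem_cp.1 (k2 h1)).2
        rw [h.hv.pair'] at this
        exact one_ne_zero this
      have k4 := finrank_le_three hQ h7 (sup_ts k1 h.hv.left (fun x hx => (mem_cp.1 (k2 hx)).1))
      have k5 := Submodule.finrank_lt_finrank_of_lt (lt_sup hcW)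
      have k6 := Submodule.finrank_lt_finrank_of_lt (lt_sup k3)
      have k7 := h.rk
      omega
    obtain ⟨τ, σ, hσ, e⟩ := exists_scal h2 hq hδ (K := 4 * Q w * Q c') (mul_ne_zero (mul_ne_zero h4 h.qw) hQc')
    obtain ⟨P, hP⟩ : ∃ P, P = polar Q c w := ⟨_, rfl⟩
    obtain ⟨l, hl⟩ : ∃ l, l * π = τ - P + 2 * Q w * κ := ⟨(τ - P + 2 * Q w * κ) * π⁻¹, by
      rw [mul_assoc, inv_mul_cancel₀ hπ, mul_one]⟩
    refine ⟨l • a₀, W₀.smul_mem _ ha₀, σ, hσ, ?_⟩
    have hQc'' : Q c' = Q c - κ * P + κ * κ * Q w := by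
      rw [hc', Q_add, QuadraticMap.map_smul, polar_smul_right, ← hP, smul_eq_mul, smul_eq_mul]
      ring
    rw [hQc''] at e
    rw [← e, Dsc, Q_add, QuadraticMap.map_smul, h.qs a₀ ha₀, polar_add_left, polar_smul_left, polar_smul_right, ← hP, ← hπd,
      ← hκ]
    simp only [smul_eq_mul]
    linear_combination (P + l * π + τ + 2 * Q w * κ - 4 * Q w * κ) * hl
  · push Not at hB
    by_cases hA : ∃ a₀ ∈ W₀, polar Q c a₀ ≠ 0
    · obtain ⟨a₀, ha₀, hρ⟩ := hA
      have hk : 4 * polar Q c a₀ * Q w ≠ 0 := mul_ne_zero (mul_ne_zero h4 hρ) h.qw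
      obtain ⟨l, hl⟩ : ∃ l, l * (4 * polar Q c a₀ * Q w) = polar Q c w * polar Q c w - 4 * Q c * Q w - δ :=
        ⟨(polar Q c w * polar Q c w - 4 * Q c * Q w - δ) * (4 * polar Q c a₀ * Q w)⁻¹, by
          rw [mul_assoc, inv_mul_cancel₀ hk, mul_one]⟩
      refine ⟨l • a₀, W₀.smul_mem _ ha₀, 1, one_ne_zero, ?_⟩
      rw [Dsc, Q_add, QuadraticMap.map_smul, h.qs a₀ ha₀, polar_add_left, polar_smul_left, polar_smul_right, hB a₀ ha₀]
      simp only [smul_eq_mul]
      linear_combination -hl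
    · push Not at hA
      exfalso
      obtain ⟨U, hU⟩ : ∃ U, U = W₀ ⊔ Submodule.span F {v} := ⟨_, rfl⟩
      have k1 := Submodule.finrank_lt_finrank_of_lt (lt_sup hvW)
      have k2 := h.rk
      rw [← hU] at k1
      have hUts := sup_ts h.ts h.hv.left (fun x hx => (mem_cp.1 (h.le hx)).1)
      rw [← hU] at hUts
      have k3 := finrank_le_three hQ h7 hUts
      have k4 := finrank_perp hQ U
      have hwU : w ∉ U := by
        intro hw
        have := hUts w hw w hw
        rw [polar_self'] at this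
        exact mul_ne_zero h2 h.qw this
      have k5 := Submodule.finrank_lt_finrank_of_lt (lt_sup hwU)
      have hmemU : ∀ x, (∀ a ∈ W₀, polar Q a x = 0) → x ∈ cp Q v v' → x ∈ perp Q U := by
        intro x hx hxC
        rw [mem_perp]
        intro y hy
        rw [hU] at hy
        obtain ⟨y1, hy1, y2, hy2, rfl⟩ := Submodule.mem_sup.1 hy
        obtain ⟨m, rfl⟩ := Submodule.mem_span_singleton.1 hy2
        rw [polar_add_left, polar_smul_left, hx y1 hy1, (mem_cp.1 hxC).1]; simp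
      have k6 : U ⊔ Submodule.span F {w} = perp Q U := by
        refine Submodule.eq_of_le_of_finrank_le (sup_le (fun x hx => mem_perp.2 fun y hy => hUts y hy x hx)
          ((Submodule.span_singleton_le_iff_mem _ _).2 (hmemU w hB h.mw))) ?_
        omega
      have k7 : c ∈ perp Q U := hmemU c (fun a ha => by rw [polar_comm]; exact hA a ha) h.mc
      rw [← k6, hU] at k7
      obtain ⟨x1, hx1, x2, hx2, e⟩ := Submodule.mem_sup.1 k7
      obtain ⟨κ, rfl⟩ := Submodule.mem_span_singleton.1 hx2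
      obtain ⟨y1, hy1, y2, hy2, rfl⟩ := Submodule.mem_sup.1 hx1
      obtain ⟨ε, rfl⟩ := Submodule.mem_span_singleton.1 hy2
      have k8 := congrArg (polar Q v') e
      rw [polar_add_right, polar_add_right, polar_smul_right, polar_smul_right, (mem_cp.1 (h.le hy1)).2, h.hv.pair',
        (mem_cp.1 h.mw).2, (mem_cp.1 h.mc).2] at k8
      have k9 : ε = 0 := by simpa using k8
      apply h.good hno κ
      rw [← e, k9]
      have : y1 + (0 : F) • v + κ • w + (-κ) • w = y1 := by module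
      rw [this]
      exact hy1

/-- **all elements of type `(3, 3, 1)` are conjugate into `H`** -/
theorem both331 {H : Subgroup (V ≃ₗ[F] V)} (hG : Good Q) (h7 : Module.finrank F V = 7) (h2 : (2 : F) ≠ 0)
    (hq : 5 < Nat.card F) (hH : H ≤ O Q) (hc : Nat.card F ^ 6 ∣ Nat.card H)
    (hno : ∀ v w, v ≠ 0 → Has Q H v w → Q w = 0) {u w u' w' : V} (h : Gen Q u w u' w') (hΔ : Dsc Q w w' ≠ 0) :
    ∃ t ∈ E Q, t * (siegel Q u w h.qu h.uw * siegel Q u' w' h.qu' h.u'w') * t⁻¹ ∈ H := by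
  obtain ⟨W₀, v, v', v₂, x, c, hX⟩ := exists_XD h2 hG.nondeg h7 hH hc hno
  obtain ⟨a, ha, σ, hσ, e⟩ := hX.exists_dsc h2 hq hG.nondeg h7 hno hΔ
  obtain ⟨k1, k2, k3, k4, k5⟩ := hX.two_add ha
  have k6 := mem_cp.1 (hX.le hX.m₂)
  have h₁ : Gen Q v (c + a) v₂ x :=
    { qu := k1
      qu' := k3
      uu' := k6.1
      uw := k2
      uw' := (mem_cp.1 hX.mw).1
      u'w := by rw [polar_add_right, hX.vc, hX.ts _ hX.m₂ _ ha, add_zero]
      u'w' := k4
      ind := by
        intro l hl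
        have := k6.2
        rw [hl, polar_smul_right, hX.hv.pair'] at this
        have hl0 : l = 0 := by simpa using this
        exact hX.n₂ (by rw [hl, hl0, zero_smul])
      u0 := hX.hv.left_ne }
  obtain ⟨g, hg, hgg⟩ := conj331 hG h2 (by omega) hq h h₁ hΔ hσ e
  exact ⟨g, hg, by rw [hgg]; exact k5⟩

end Cfsg.Agent.H830.Hex
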