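import Cfsg.Agent.H830.Rg.HexB
import Cfsg.Agent.H830.Rg.HexJ

/-!
# S3691, `Ω₇(q)`: the second factor fixes a singular point (helper830)

* `YS.false` : contradiction from the structure `YS`
* `no_hex_v` : `K` fixes `⟨v⟩`, `⟨v, z⟩`, induces `E W` on `W = ⟨v, v', z⟩^⊥` and contains `siegel v (t z)`
-/

set_option autoImplicit false
set_option linter.unusedSectionVars false

namespace Cfsg.Agent.H830.Hex

open QuadraticMap Cfsg.Agent.LieClassical.OrthCore Cfsg.Agent.LieClassical.OrthTrans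
  Cfsg.Agent.H883.Sub Cfsg.Agent.H883.Root Cfsg.Agent.H916.QuadLemmas

variable {F V : Type*} [Field F] [AddCommGroup V] [Module F V] {Q : QuadraticForm F V}

/-! ### The torus -/

section

variable {G₀ : Subgroup (V ≃ₗ[F] V)} {u u' s₀ : V}

theorem exists_weyl (h : Hyp Q u u') (hs : polar Q u s₀ = 0) (hs' : polar Q u' s₀ = 0) (q : Q s₀ = 1)
    (g1 : ∀ α : F, Has Q G₀ u (α • s₀)) (g2 : ∀ α : F, Has Q G₀ u' (α • s₀)) {α : F} (hα : α ≠ 0) :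
    ∃ t ∈ G₀, t u = (-(α * α)⁻¹) • u' ∧ t u' = (-(α * α)) • u ∧ t s₀ = -s₀ ∧
      ∀ x, polar Q u x = 0 → polar Q u' x = 0 → polar Q s₀ x = 0 → t x = x := by
  obtain ⟨β, hβ⟩ : ∃ β, α * β = 1 := ⟨α⁻¹, mul_inv_cancel₀ hα⟩
  have hβ' : (α * α)⁻¹ = β * β := by
    have : β = α⁻¹ := (inv_eq_of_mul_eq_one_right hβ).symm
    rw [this, mul_inv]
  obtain ⟨a1, a2, a3⟩ := g1 α
  obtain ⟨b1, b2, b3⟩ := g2 β
  have su : polar Q s₀ u = 0 := by rw [polar_comm]; exact hs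
  have su' : polar Q s₀ u' = 0 := by rw [polar_comm]; exact hs'
  have ss : polar Q s₀ s₀ = 2 := by rw [polar_self', q, mul_one]
  have Xv : ∀ x, siegel Q u (α • s₀) a1 a2 x = x + (α * polar Q u x) • s₀ - (α * polar Q s₀ x + α * α * polar Q u x) • u := by
    intro x
    rw [siegel_apply, QuadraticMap.map_smul, q, polar_smul_left]
    simp only [smul_eq_mul]
    module
  have Yv : ∀ x, siegel Q u' (β • s₀) b1 b2 x = x + (β * polar Q u' x) • s₀ - (β * polar Q s₀ x + β * β * polar Q u' x) • u' := by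
    intro x
    rw [siegel_apply, QuadraticMap.map_smul, q, polar_smul_left]
    simp only [smul_eq_mul]
    module
  refine ⟨siegel Q u (α • s₀) a1 a2 * siegel Q u' (β • s₀) b1 b2 * siegel Q u (α • s₀) a1 a2,
    G₀.mul_mem (G₀.mul_mem a3 b3) a3, ?_, ?_, ?_, ?_⟩
  · show siegel Q u (α • s₀) a1 a2 (siegel Q u' (β • s₀) b1 b2 (siegel Q u (α • s₀) a1 a2 u)) = _
    simp only [Xv, Yv, polar_add_right, polar_sub_right, polar_smul_right, h.polar_left, h.pair, h.pair', hs,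
      hs', su, su', ss, hβ', smul_eq_mul]
    match_scalars
    · linear_combination (α * β - 1) * hβ
    · linear_combination (-β) * hβ
    · ring
  · show siegel Q u (α • s₀) a1 a2 (siegel Q u' (β • s₀) b1 b2 (siegel Q u (α • s₀) a1 a2 u')) = _
    simp only [Xv, Yv, polar_add_right, polar_sub_right, polar_smul_right, h.polar_left, h.polar_right, h.pair, h.pair', hs,
      hs', su, su', ss, smul_eq_mul]
    match_scalars
    · linear_combination (α * β - 1) * hβ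
    · linear_combination (-α + α * (α * β - 1)) * hβ
    · linear_combination (2 * α * α - α * α * (α * β - 1)) * hβ
  · show siegel Q u (α • s₀) a1 a2 (siegel Q u' (β • s₀) b1 b2 (siegel Q u (α • s₀) a1 a2 s₀)) = _
    simp only [Xv, Yv, polar_add_right, polar_sub_right, polar_smul_right, h.polar_left, h.pair, h.pair', hs,
      hs', su, su', ss, smul_eq_mul]
    match_scalars
    · linear_combination 2 * (α * β - 1) * hβ
    · linear_combination (-2 * α * (α * β - 2)) * hβ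
    · linear_combination (2 * β) * hβ
  · intro x h1 h2 h3
    show siegel Q u (α • s₀) a1 a2 (siegel Q u' (β • s₀) b1 b2 (siegel Q u (α • s₀) a1 a2 x)) = _
    have k1 : siegel Q u (α • s₀) a1 a2 x = x := by rw [Xv, h1, h3]; simp
    have k2 : siegel Q u' (β • s₀) b1 b2 x = x := by rw [Yv, h2, h3]; simp
    rw [k1, k2, k1]

theorem exists_torus (h2 : (2 : F) ≠ 0) (h : Hyp Q u u') (hs : polar Q u s₀ = 0) (hs' : polar Q u' s₀ = 0) (q : Q s₀ = 1)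
    (g1 : ∀ α : F, Has Q G₀ u (α • s₀)) (g2 : ∀ α : F, Has Q G₀ u' (α • s₀)) {ω : F} (hω : ω ≠ 0) :
    ∃ t ∈ G₀, t u = (ω * ω) • u ∧ t u' = (ω * ω)⁻¹ • u' ∧ ∀ x, polar Q u x = 0 → polar Q u' x = 0 → t x = x := by
  obtain ⟨t, ht, t1, t2, t3, t4⟩ := exists_weyl h hs hs' q g1 g2 hω
  obtain ⟨r, hr, r1, r2, r3, r4⟩ := exists_weyl h hs hs' q g1 g2 one_ne_zero
  have inv : ∀ {x y : V}, r x = y → r⁻¹ y = x := by
    rintro x y rfl
    exact LinearEquiv.symm_apply_apply _ x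
  have i1 : r⁻¹ u = -u' := inv (by rw [map_neg, r2]; simp)
  have i2 : r⁻¹ u' = -u := inv (by rw [map_neg, r1]; simp)
  have i3 : r⁻¹ s₀ = -s₀ := inv (by rw [map_neg, r3]; simp)
  refine ⟨t * r⁻¹, G₀.mul_mem ht (G₀.inv_mem hr), ?_, ?_, fun x h1 h3 => ?_⟩
  · show t (r⁻¹ u) = _
    rw [i1, map_neg, t2]; module
  · show t (r⁻¹ u') = _
    rw [i2, map_neg, t1]; module
  · obtain ⟨c, hc⟩ : ∃ c : F, 2 * c = polar Q s₀ x := ⟨2⁻¹ * polar Q s₀ x, by rw [← mul_assoc, mul_inv_cancel₀ h2, one_mul]⟩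
    obtain ⟨y, hy⟩ : ∃ y, y = x - c • s₀ := ⟨_, rfl⟩
    have e : x = y + c • s₀ := by rw [hy]; module
    have y1 : polar Q u y = 0 := by rw [hy, polar_sub_right, polar_smul_right, h1, hs]; simp
    have y2 : polar Q u' y = 0 := by rw [hy, polar_sub_right, polar_smul_right, h3, hs']; simp
    have y3 : polar Q s₀ y = 0 := by
      rw [hy, polar_sub_right, polar_smul_right, polar_self', q, smul_eq_mul, ← hc]; ring
    show t (r⁻¹ x) = x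
    rw [e, map_add, map_smul, i3, inv (r4 y y1 y2 y3), map_add, map_smul, map_neg, t3, t4 y y1 y2 y3]
    module

end

/-! ### Lifts -/

/-- `k` fixes `v` and agrees with `e` on `v^⊥` modulo `v` -/
def LF (Q : QuadraticForm F V) (v : V) (e k : V ≃ₗ[F] V) : Prop :=
  k v = v ∧ ∀ x, polar Q v x = 0 → ∃ c : F, k x = e x + c • v

theorem LF.mul {v : V} {e e' k k' : V ≃ₗ[F] V} (he' : e' ∈ StV Q v) (h : LF Q v e k) (h' : LF Q v e' k') :
    LF Q v (e * e') (k * k') := by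
  refine ⟨by show k (k' v) = v; rw [h'.1, h.1], fun x hx => ?_⟩
  obtain ⟨c', hc'⟩ := h'.2 x hx
  obtain ⟨c, hc⟩ := h.2 (e' x) (by rw [← he'.2, polar_map he'.1]; exact hx)
  refine ⟨c + c', ?_⟩
  show k (k' x) = e (e' x) + _
  rw [hc', map_add, map_smul, h.1, hc]
  module

theorem LF.inv {v : V} {e k : V ≃ₗ[F] V} (he : e ∈ StV Q v) (h : LF Q v e k) : LF Q v e⁻¹ k⁻¹ := by
  have hv : k⁻¹ v = v := by
    have h2 : k⁻¹ (k v) = v := LinearEquiv.symm_apply_apply k v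
    rwa [h.1] at h2
  refine ⟨hv, fun x hx => ?_⟩
  have he' := (StV Q v).inv_mem he
  obtain ⟨c, hc⟩ := h.2 (e⁻¹ x) (by rw [← he'.2, polar_map he'.1]; exact hx)
  have h1 : e (e⁻¹ x) = x := LinearEquiv.apply_symm_apply e x
  rw [h1] at hc
  have h2 := congrArg (fun y => k⁻¹ y) hc
  have h3 : k⁻¹ (k (e⁻¹ x)) = e⁻¹ x := LinearEquiv.symm_apply_apply k _
  simp only [h3, map_add, map_smul, hv] at h2
  refine ⟨-c, ?_⟩
  rw [h2]
  module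

/-- the subgroup of the elements which lift to `K` -/
def lifG (Q : QuadraticForm F V) (K : Subgroup (V ≃ₗ[F] V)) (v : V) : Subgroup (V ≃ₗ[F] V) where
  carrier := {e | e ∈ StV Q v ∧ ∃ k ∈ K, LF Q v e k}
  one_mem' := ⟨(StV Q v).one_mem, 1, K.one_mem, rfl, fun x _ => ⟨0, by rw [zero_smul, add_zero]⟩⟩
  mul_mem' := by
    rintro a b ⟨ha, k, hk, hk'⟩ ⟨hb, l, hl, hl'⟩
    exact ⟨(StV Q v).mul_mem ha hb, k * l, K.mul_mem hk hl, hk'.mul hb hl'⟩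
  inv_mem' := by
    rintro a ⟨ha, k, hk, hk'⟩
    exact ⟨(StV Q v).inv_mem ha, k⁻¹, K.inv_mem hk, hk'.inv ha⟩

section

variable {K : Subgroup (V ≃ₗ[F] V)} {v v' z : V}

/-- lifts of elements which stabilise `W` -/
theorem LW_mul {W : Submodule F V} (fixv : ∀ k ∈ K, ∃ c : F, k v = c • v) {e e' k k' : V ≃ₗ[F] V} (hk : k ∈ K)
    (he' : ∀ w ∈ W, e' w ∈ W) (h : ∀ w ∈ W, ∃ c : F, k w = e w + c • v) (h' : ∀ w ∈ W, ∃ c : F, k' w = e' w + c • v) :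
    ∀ w ∈ W, ∃ c : F, (k * k') w = (e * e') w + c • v := by
  intro w hw
  obtain ⟨χ, hχ⟩ := fixv k hk
  obtain ⟨c', hc'⟩ := h' w hw
  obtain ⟨c, hc⟩ := h (e' w) (he' w hw)
  refine ⟨c + c' * χ, ?_⟩
  show k (k' w) = e (e' w) + _
  rw [hc', map_add, map_smul, hχ, hc]
  module

theorem LW_inv {W : Submodule F V} (fixv : ∀ k ∈ K, ∃ c : F, k v = c • v) {e k : V ≃ₗ[F] V} (hk : k ∈ K)
    (he : ∀ w ∈ W, e⁻¹ w ∈ W) (h : ∀ w ∈ W, ∃ c : F, k w = e w + c • v) :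
    ∀ w ∈ W, ∃ c : F, k⁻¹ w = e⁻¹ w + c • v := by
  intro w hw
  obtain ⟨χ, hχ⟩ := fixv k⁻¹ (K.inv_mem hk)
  obtain ⟨c, hc⟩ := h (e⁻¹ w) (he w hw)
  have h1 : e (e⁻¹ w) = w := LinearEquiv.apply_symm_apply e w
  rw [h1] at hc
  have h2 := congrArg (fun y => k⁻¹ y) hc
  have h3 : k⁻¹ (k (e⁻¹ w)) = e⁻¹ w := LinearEquiv.symm_apply_apply k _
  simp only [h3, map_add, map_smul, hχ] at h2
  refine ⟨-(c * χ), ?_⟩
  rw [h2]
  module

/-- **commutators of lifts fix `v` and `z` modulo `v`** -/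
theorem comm_lift (hv : Hyp Q v v') (hz : z ∈ cp Q v v') (hQz : polar Q z z ≠ 0)
    (fixv : ∀ k ∈ K, ∃ c : F, k v = c • v) (fixz : ∀ k ∈ K, ∃ a b : F, k z = a • z + b • v) {W : Submodule F V}
    (hW : W = cp Q v v' ⊓ LinearMap.ker (polarBilin Q z)) {e₁ e₂ k₁ k₂ : V ≃ₗ[F] V} (he₁ : e₁ ∈ EY Q W) (he₂ : e₂ ∈ EY Q W)
    (hk₁ : k₁ ∈ K) (hk₂ : k₂ ∈ K) (h₁ : ∀ w ∈ W, ∃ c : F, k₁ w = e₁ w + c • v) (h₂ : ∀ w ∈ W, ∃ c : F, k₂ w = e₂ w + c • v)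
    (hst : ∀ e ∈ EY Q W, ∀ w ∈ W, e w ∈ W) :
    LF Q v (e₁ * e₂ * (e₁⁻¹ * e₂⁻¹)) (k₁ * k₂ * (k₁⁻¹ * k₂⁻¹)) := by
  have hkinv : k₁⁻¹ * k₂⁻¹ ∈ K := K.mul_mem (K.inv_mem hk₁) (K.inv_mem hk₂)
  have hyk : ∀ y, (k₂ * k₁) ((k₁⁻¹ * k₂⁻¹) y) = y := by
    intro y
    have : (k₂ * k₁) * (k₁⁻¹ * k₂⁻¹) = 1 := by group
    exact congrArg (fun g : V ≃ₗ[F] V => g y) this
  obtain ⟨χ₁, hχ₁⟩ := fixv k₁ hk₁
  obtain ⟨χ₂, hχ₂⟩ := fixv k₂ hk₂
  obtain ⟨χ, hχ⟩ := fixv _ hkinv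
  obtain ⟨a₁, b₁, hz₁⟩ := fixz k₁ hk₁
  obtain ⟨a₂, b₂, hz₂⟩ := fixz k₂ hk₂
  obtain ⟨a, b, hza⟩ := fixz _ hkinv
  have kv : (k₁ * k₂) v = (k₂ * k₁) v := by
    show k₁ (k₂ v) = k₂ (k₁ v)
    rw [hχ₂, map_smul, hχ₁, map_smul, hχ₂, smul_smul, smul_smul, mul_comm]
  have kv' : (k₁ * k₂ * (k₁⁻¹ * k₂⁻¹)) v = v := by
    show (k₁ * k₂) ((k₁⁻¹ * k₂⁻¹) v) = v
    have h3 := hyk v
    rw [hχ, map_smul] at h3 ⊢
    rw [kv, h3]
  have kz : ∃ c : F, (k₁ * k₂) z = (k₂ * k₁) z + c • v := by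
    refine ⟨(a₂ * b₁ + b₂ * χ₁) - (a₁ * b₂ + b₁ * χ₂), ?_⟩
    show k₁ (k₂ z) = k₂ (k₁ z) + _
    rw [hz₂, map_add, map_smul, map_smul, hz₁, hχ₁, map_add, map_smul, map_smul, hz₂, hχ₂]
    module
  obtain ⟨c, hc⟩ := kz
  have kz' : (k₁ * k₂ * (k₁⁻¹ * k₂⁻¹)) z = z + (a * c) • v := by
    show (k₁ * k₂) ((k₁⁻¹ * k₂⁻¹) z) = _
    have h3 := hyk z
    rw [hza, map_add, map_smul, map_smul] at h3 ⊢
    rw [kv, hc]
    nth_rewrite 2 [← h3]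
    module
  have hst' : ∀ e ∈ EY Q W, ∀ w ∈ W, e⁻¹ w ∈ W := fun e he => hst e⁻¹ ((EY Q W).inv_mem he)
  have kw := LW_mul fixv (K.mul_mem hk₁ hk₂) (hst _ ((EY Q W).mul_mem ((EY Q W).inv_mem he₁) ((EY Q W).inv_mem he₂)))
    (LW_mul fixv hk₁ (hst _ he₂) h₁ h₂)
    (LW_mul fixv (K.inv_mem hk₁) (hst' _ he₂) (LW_inv fixv hk₁ (hst' _ he₁) h₁) (LW_inv fixv hk₂ (hst' _ he₂) h₂))
  have hE : e₁ * e₂ * (e₁⁻¹ * e₂⁻¹) ∈ EY Q W :=
    (EY Q W).mul_mem ((EY Q W).mul_mem he₁ he₂) ((EY Q W).mul_mem ((EY Q W).inv_mem he₁) ((EY Q W).inv_mem he₂))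
  have ez := EY_fix hE (v := z) (fun y hy => by rw [hW] at hy; rw [polar_comm]; exact hy.2)
  have ev := EY_fix hE (v := v) (fun y hy => by rw [hW] at hy; rw [polar_comm]; exact (mem_cp.1 hy.1).1)
  refine ⟨kv', fun x hx => ?_⟩
  obtain ⟨y, hy⟩ : ∃ y, y = proj Q v v' x := ⟨_, rfl⟩
  have hyC : y ∈ cp Q v v' := by rw [hy]; exact proj_mem_cp hv x
  have hxy : x = y + polar Q v' x • v := by rw [hy, LieClassical.OrthTrans.proj, hx]; module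
  obtain ⟨α, hα⟩ : ∃ α, α = polar Q z y * (polar Q z z)⁻¹ := ⟨_, rfl⟩
  have hαz : α * polar Q z z = polar Q z y := by rw [hα, mul_assoc, inv_mul_cancel₀ hQz, mul_one]
  obtain ⟨w, hw⟩ : ∃ w, w = y - α • z := ⟨_, rfl⟩
  have hwW : w ∈ W := by
    rw [hW, hw]
    refine ⟨(cp Q v v').sub_mem hyC ((cp Q v v').smul_mem _ hz), ?_⟩
    show polar Q z (y - α • z) = 0
    rw [polar_sub_right, polar_smul_right, smul_eq_mul, hαz, sub_self]
  obtain ⟨d, hd⟩ := kw w hwW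
  have hx' : x = w + α • z + polar Q v' x • v := by rw [hw]; nth_rewrite 1 [hxy]; module
  generalize polar Q v' x = β at hx'
  refine ⟨d + α * (a * c), ?_⟩
  rw [hx']
  simp only [map_add, map_smul, hd, kz', kv', ez, ev]
  module

end

end Cfsg.Agent.H830.Hex
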